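import Groth.Prelude.Def_Biext
import Mathlib.CategoryTheory.Sites.IsSheafFor

/-!
# Elementary calculus of biextensions on sections: symmetry, gluing, zero and negative sections
-/

set_option autoImplicit false

universe u

open CategoryTheory Opposite

namespace Groth.AbSchBiext

variable {C : Type (u + 1)} [Category.{u} C] {J : GrothendieckTopology C}

/-- Sections of a sheaf of sets with a property that is unique and natural glue. -/
theorem exists_glue_unique (E : Sheaf J (Type (u + 1))) {T : C} (p : ∀ ⦃U : C⦄, (U ⟶ T) → E.obj.obj (op U) → Prop)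
    (hres : ∀ ⦃U V : C⦄ (g : V ⟶ U) (f : U ⟶ T) (x : E.obj.obj (op U)), p f x → p (g ≫ f) (E.obj.map g.op x))
    (huniq : ∀ ⦃U : C⦄ (f : U ⟶ T) (x y : E.obj.obj (op U)), p f x → p f y → x = y)
    (R : Sieve T) (hR : R ∈ J T) (hloc : ∀ ⦃U : C⦄ (f : U ⟶ T), R f → ∃ x, p f x) :
    ∃ x : E.obj.obj (op T), ∀ ⦃U : C⦄ (f : U ⟶ T), R f → p f (E.obj.map f.op x) := by
  have hs := (isSheaf_iff_isSheaf_of_type J E.obj).1 E.property R hR
  let fam : Presieve.FamilyOfElements E.obj (R : Presieve T) := fun U f hf => (hloc f hf).choose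
  have hfam : fam.Compatible := by
    intro U₁ U₂ V g₁ g₂ f₁ f₂ h₁ h₂ hcomm
    exact huniq (g₁ ≫ f₁) _ _ (hres g₁ f₁ _ (hloc f₁ h₁).choose_spec)
      (hcomm ▸ hres g₂ f₂ _ (hloc f₂ h₂).choose_spec)
  refine ⟨hs.amalgamate fam hfam, fun U f hf => ?_⟩
  rw [hs.valid_glue hfam f hf]
  exact (hloc f hf).choose_spec

theorem ext_of_cover (E : Sheaf J (Type (u + 1))) {T : C} {R : Sieve T} (hR : R ∈ J T)
    {x y : E.obj.obj (op T)} (h : ∀ ⦃U : C⦄ (f : U ⟶ T), R f → E.obj.map f.op x = E.obj.map f.op y) : x = y :=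
  ((isSheaf_iff_isSheaf_of_type J E.obj).1 E.property R hR).isSeparatedFor.ext fun _ f hf => h f hf

theorem ab_ext_of_cover (F : Sheaf J AddCommGrpCat.{u + 1}) {T : C} {R : Sieve T} (hR : R ∈ J T)
    {x y : F.obj.obj (op T)} (h : ∀ ⦃U : C⦄ (f : U ⟶ T), R f → F.obj.map f.op x = F.obj.map f.op y) : x = y :=
  ext_of_cover (Biext.uSh J F) hR h

theorem map_map (F : Cᵒᵖ ⥤ AddCommGrpCat.{u + 1}) {T U V : C} (f : U ⟶ T) (g : V ⟶ U) (x : F.obj (op T)) :
    F.map g.op (F.map f.op x) = F.map (g ≫ f).op x := by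
  rw [op_comp, F.map_comp]; rfl

variable {P Q G : Sheaf J AddCommGrpCat.{u + 1}}

/-- The symmetric biextension. -/
def swap (B : Biext J P Q G) : Biext J Q P G where
  E := B.E
  πP := B.πQ
  πQ := B.πP
  πP_map := B.πQ_map
  πQ_map := B.πP_map
  act := B.act
  act_map := B.act_map
  πP_act := B.πQ_act
  πQ_act := B.πP_act
  zero_act := B.zero_act
  add_act := B.add_act
  existsUnique_act T x y h h' := B.existsUnique_act T x y h' h
  locallySurjective T q p := by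
    obtain ⟨R, hR, h⟩ := B.locallySurjective T p q
    exact ⟨R, hR, fun T' f hf => (h f hf).imp fun x hx => ⟨hx.2, hx.1⟩⟩
  add₁ := B.add₂
  πP_add₁ := B.πQ_add₂
  πQ_add₁ := B.πP_add₂
  add₁_map := B.add₂_map
  add₁_comm := B.add₂_comm
  add₁_assoc := B.add₂_assoc
  add₁_act := B.add₂_act
  add₂ := B.add₁
  πP_add₂ := B.πQ_add₁
  πQ_add₂ := B.πP_add₁
  add₂_map := B.add₁_map
  add₂_comm := B.add₁_comm
  add₂_assoc := B.add₁_assoc
  add₂_act := B.add₁_act
  compat T x y z t hxy hzt hxz hyt := (B.compat T x z y t hxz hyt hxy hzt).symm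

variable (B : Biext J P Q G)

theorem map_mapE {T U V : C} (f : U ⟶ T) (g : V ⟶ U) (x : B.E.obj.obj (op T)) :
    B.E.obj.map g.op (B.E.obj.map f.op x) = B.E.obj.map (g ≫ f).op x := by
  rw [op_comp, B.E.obj.map_comp]; rfl

theorem map_idE {T : C} (x : B.E.obj.obj (op T)) : B.E.obj.map (𝟙 T).op x = x := by
  rw [op_id, B.E.obj.map_id]; rfl

theorem act_eq_self {T : C} {g : G.obj.obj (op T)} {x : B.E.obj.obj (op T)} (h : B.act T g x = x) : g = 0 :=
  (B.existsUnique_act T x x rfl rfl).unique h (B.zero_act T x)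

theorem add₂_congr {T : C} {x x' y y' : B.E.obj.obj (op T)} (hx : x = x') (hy : y = y')
    (h : B.πP T x = B.πP T y) : B.add₂ T x y h = B.add₂ T x' y' (hx ▸ hy ▸ h) := by
  subst hx; subst hy; rfl

theorem add₂_act_right (T : C) (g : G.obj.obj (op T)) (x y : B.E.obj.obj (op T)) (h : B.πP T x = B.πP T y) :
    B.add₂ T x (B.act T g y) (h.trans (B.πP_act T g y).symm) = B.act T g (B.add₂ T x y h) := by
  rw [B.add₂_comm, B.add₂_act T g y x h.symm, B.add₂_comm]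

/-- The neutral section over `(p, 0)`. -/
def IsZero₂ (T : C) (p : P.obj.obj (op T)) (e : B.E.obj.obj (op T)) : Prop :=
  ∃ _ : B.πP T e = p, B.πQ T e = 0 ∧ B.add₂ T e e rfl = e

theorem isZero₂_res {T U : C} (f : U ⟶ T) {p : P.obj.obj (op T)} {e : B.E.obj.obj (op T)}
    (h : IsZero₂ B T p e) : IsZero₂ B U (P.obj.map f.op p) (B.E.obj.map f.op e) := by
  obtain ⟨h1, h2, h3⟩ := h
  refine ⟨by rw [B.πP_map, h1], by rw [B.πQ_map, h2, map_zero], ?_⟩
  conv_rhs => rw [← h3, B.add₂_map]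

theorem isZero₂_unique {T : C} {p : P.obj.obj (op T)} {e e' : B.E.obj.obj (op T)}
    (h : IsZero₂ B T p e) (h' : IsZero₂ B T p e') : e = e' := by
  obtain ⟨h1, h2, h3⟩ := h
  obtain ⟨h1', h2', h3'⟩ := h'
  obtain ⟨g, hg, -⟩ := B.existsUnique_act T e e' (h1.trans h1'.symm) (h2.trans h2'.symm)
  subst hg
  rw [B.add₂_act T g e _ (B.πP_act T g e).symm, add₂_act_right B T g e e rfl, h3] at h3'
  rw [act_eq_self B h3']
  exact (B.zero_act T e).symm

theorem exists_isZero₂ (T : C) (p : P.obj.obj (op T)) : ∃ e, IsZero₂ B T p e := by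
  obtain ⟨R, hR, hloc⟩ := B.locallySurjective T p 0
  obtain ⟨e, he⟩ := exists_glue_unique B.E (fun U f e => IsZero₂ B U (P.obj.map f.op p) e)
    (fun U V g f x hx => by rw [← map_map]; exact isZero₂_res B g hx)
    (fun U f x y hx hy => isZero₂_unique B hx hy) R hR
    (fun U f hf => by
      obtain ⟨x, hx, hx'⟩ := hloc f hf
      rw [map_zero] at hx'
      obtain ⟨g, hg, -⟩ := B.existsUnique_act U x (B.add₂ U x x rfl) (B.πP_add₂ U x x rfl).symm
        (by rw [B.πQ_add₂, hx', add_zero])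
      refine ⟨B.act U (-g) x, (B.πP_act U _ x).trans hx, (B.πQ_act U _ x).trans hx', ?_⟩
      rw [B.add₂_act U (-g) x _ (B.πP_act U _ x).symm, add₂_act_right B U (-g) x x rfl, ← hg,
        ← B.add_act, ← B.add_act]
      congr 1
      abel)
  refine ⟨e, ⟨?_, ?_, ?_⟩⟩
  · refine ab_ext_of_cover P hR fun U f hf => ?_
    rw [← B.πP_map]; exact (he f hf).1
  · refine ab_ext_of_cover Q hR fun U f hf => ?_
    rw [← B.πQ_map, map_zero]; exact (he f hf).2.1
  · refine ext_of_cover B.E hR fun U f hf => ?_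
    rw [B.add₂_map]; exact (he f hf).2.2

/-- The neutral section of the second law over `p`. -/
noncomputable def e₂ (T : C) (p : P.obj.obj (op T)) : B.E.obj.obj (op T) := (exists_isZero₂ B T p).choose

theorem πP_e₂ (T : C) (p : P.obj.obj (op T)) : B.πP T (e₂ B T p) = p := (exists_isZero₂ B T p).choose_spec.1

theorem πQ_e₂ (T : C) (p : P.obj.obj (op T)) : B.πQ T (e₂ B T p) = 0 := (exists_isZero₂ B T p).choose_spec.2.1

theorem map_e₂ {T U : C} (f : U ⟶ T) (p : P.obj.obj (op T)) :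
    B.E.obj.map f.op (e₂ B T p) = e₂ B U (P.obj.map f.op p) :=
  isZero₂_unique B (isZero₂_res B f (exists_isZero₂ B T p).choose_spec) (exists_isZero₂ B U _).choose_spec

theorem e₂_add₂ (T : C) (x : B.E.obj.obj (op T)) (p : P.obj.obj (op T)) (h : B.πP T x = p) :
    B.add₂ T (e₂ B T p) x ((πP_e₂ B T p).trans h.symm) = x := by
  let e := e₂ B T p
  obtain ⟨g, hg, -⟩ := B.existsUnique_act T x (B.add₂ T e x ((πP_e₂ B T p).trans h.symm))
    ((h.trans (πP_e₂ B T p).symm).trans (B.πP_add₂ T _ _ _).symm)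
    (by rw [B.πQ_add₂, πQ_e₂, zero_add])
  have h1 : B.add₂ T e (B.add₂ T e x ((πP_e₂ B T p).trans h.symm)) (B.πP_add₂ T _ _ _).symm =
      B.add₂ T e x ((πP_e₂ B T p).trans h.symm) := by
    rw [← B.add₂_assoc T e e x rfl]
    exact add₂_congr B (exists_isZero₂ B T p).choose_spec.2.2 rfl _
  rw [add₂_congr B rfl hg.symm, add₂_act_right B T g _ x ((πP_e₂ B T p).trans h.symm)] at h1
  change B.add₂ T e x _ = x
  rw [← hg, act_eq_self B h1]
  exact B.zero_act T x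

theorem add₂_e₂ (T : C) (x : B.E.obj.obj (op T)) (p : P.obj.obj (op T)) (h : B.πP T x = p) :
    B.add₂ T x (e₂ B T p) (h.trans (πP_e₂ B T p).symm) = x := by
  rw [B.add₂_comm]; exact e₂_add₂ B T x p h

/-- A negative for the second law. -/
def IsNeg₂ (T : C) (x y : B.E.obj.obj (op T)) : Prop :=
  ∃ h : B.πP T x = B.πP T y, B.add₂ T x y h = e₂ B T (B.πP T x)

theorem isNeg₂_res {T U : C} (f : U ⟶ T) {x y : B.E.obj.obj (op T)} (h : IsNeg₂ B T x y) :
    IsNeg₂ B U (B.E.obj.map f.op x) (B.E.obj.map f.op y) := by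
  obtain ⟨h1, h2⟩ := h
  refine ⟨by rw [B.πP_map, B.πP_map, h1], ?_⟩
  rw [← B.add₂_map f x y h1, h2, map_e₂, B.πP_map]

theorem isNeg₂_unique {T : C} {x y y' : B.E.obj.obj (op T)} (h : IsNeg₂ B T x y) (h' : IsNeg₂ B T x y') :
    y = y' := by
  obtain ⟨h1, h2⟩ := h
  obtain ⟨h1', h2'⟩ := h'
  rw [← e₂_add₂ B T y _ h1.symm, add₂_congr B h2'.symm rfl]
  conv_rhs => rw [← add₂_e₂ B T y' _ h1'.symm, add₂_congr B rfl h2.symm]
  rw [← B.add₂_assoc T y' x y h1'.symm h1]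
  exact add₂_congr B (B.add₂_comm T x y' h1') rfl _

theorem exists_isNeg₂ (T : C) (x : B.E.obj.obj (op T)) : ∃ y, IsNeg₂ B T x y := by
  obtain ⟨R, hR, hloc⟩ := B.locallySurjective T (B.πP T x) (-B.πQ T x)
  obtain ⟨e, he⟩ := exists_glue_unique B.E (fun U f y => IsNeg₂ B U (B.E.obj.map f.op x) y)
    (fun U V g f y hy => by rw [← map_mapE]; exact isNeg₂_res B g hy)
    (fun U f y y' hy hy' => isNeg₂_unique B hy hy') R hR
    (fun U f hf => by
      obtain ⟨y, hy, hy'⟩ := hloc f hf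
      have hxy : B.πP U (B.E.obj.map f.op x) = B.πP U y := by rw [B.πP_map, hy]
      obtain ⟨g, hg, -⟩ := B.existsUnique_act U (e₂ B U (B.πP U (B.E.obj.map f.op x)))
        (B.add₂ U (B.E.obj.map f.op x) y hxy)
        (by rw [πP_e₂, B.πP_add₂]) (by rw [πQ_e₂, B.πQ_add₂, B.πQ_map, hy', map_neg, add_neg_cancel])
      refine ⟨B.act U (-g) y, hxy.trans (B.πP_act U _ y).symm, ?_⟩
      rw [add₂_act_right B U (-g) _ y hxy, ← hg, ← B.add_act, neg_add_cancel, B.zero_act])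
  have h1 : B.πP T x = B.πP T e := by
    refine ab_ext_of_cover P hR fun U f hf => ?_
    rw [← B.πP_map, ← B.πP_map]; exact (he f hf).1
  refine ⟨e, h1, ext_of_cover B.E hR fun U f hf => ?_⟩
  rw [B.add₂_map, map_e₂]
  exact (he f hf).2.trans (congrArg (e₂ B U) (B.πP_map f x))

/-- The negative of a section for the second law. -/
noncomputable def neg₂ (T : C) (x : B.E.obj.obj (op T)) : B.E.obj.obj (op T) := (exists_isNeg₂ B T x).choose

theorem πP_neg₂ (T : C) (x : B.E.obj.obj (op T)) : B.πP T (neg₂ B T x) = B.πP T x :=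
  (exists_isNeg₂ B T x).choose_spec.1.symm

theorem add₂_neg₂ (T : C) (x : B.E.obj.obj (op T)) :
    B.add₂ T x (neg₂ B T x) (πP_neg₂ B T x).symm = e₂ B T (B.πP T x) :=
  (exists_isNeg₂ B T x).choose_spec.2

theorem πQ_neg₂ (T : C) (x : B.E.obj.obj (op T)) : B.πQ T (neg₂ B T x) = -B.πQ T x := by
  refine eq_neg_of_add_eq_zero_right ?_
  rw [← B.πQ_add₂ T x _ (πP_neg₂ B T x).symm, add₂_neg₂, πQ_e₂]

theorem map_neg₂ {T U : C} (f : U ⟶ T) (x : B.E.obj.obj (op T)) :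
    B.E.obj.map f.op (neg₂ B T x) = neg₂ B U (B.E.obj.map f.op x) :=
  isNeg₂_unique B (isNeg₂_res B f (exists_isNeg₂ B T x).choose_spec) (exists_isNeg₂ B U _).choose_spec

/-- The sections over a given section of `P`. -/
abbrev Fib₂ (T : C) (p : P.obj.obj (op T)) : Type (u + 1) := {x : B.E.obj.obj (op T) // B.πP T x = p}

/-- The group of sections over `p` under the second law. -/
@[reducible]
noncomputable def fibGroup₂ (T : C) (p : P.obj.obj (op T)) : AddCommGroup (Fib₂ B T p) where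
  add x y := ⟨B.add₂ T x.1 y.1 (x.2.trans y.2.symm), (B.πP_add₂ T _ _ _).trans x.2⟩
  add_assoc x y z := Subtype.ext (B.add₂_assoc T x.1 y.1 z.1 (x.2.trans y.2.symm) (y.2.trans z.2.symm))
  zero := ⟨e₂ B T p, πP_e₂ B T p⟩
  zero_add x := Subtype.ext (e₂_add₂ B T x.1 p x.2)
  add_zero x := Subtype.ext (add₂_e₂ B T x.1 p x.2)
  nsmul := @nsmulRec _ ⟨⟨e₂ B T p, πP_e₂ B T p⟩⟩
    ⟨fun x y => ⟨B.add₂ T x.1 y.1 (x.2.trans y.2.symm), (B.πP_add₂ T _ _ _).trans x.2⟩⟩
  neg x := ⟨neg₂ B T x.1, (πP_neg₂ B T x.1).trans x.2⟩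
  zsmul := @zsmulRec _ ⟨⟨e₂ B T p, πP_e₂ B T p⟩⟩
    ⟨fun x y => ⟨B.add₂ T x.1 y.1 (x.2.trans y.2.symm), (B.πP_add₂ T _ _ _).trans x.2⟩⟩
    ⟨fun x => ⟨neg₂ B T x.1, (πP_neg₂ B T x.1).trans x.2⟩⟩
    (@nsmulRec _ ⟨⟨e₂ B T p, πP_e₂ B T p⟩⟩
      ⟨fun x y => ⟨B.add₂ T x.1 y.1 (x.2.trans y.2.symm), (B.πP_add₂ T _ _ _).trans x.2⟩⟩)
  neg_add_cancel x := Subtype.ext (by
    change B.add₂ T (neg₂ B T x.1) x.1 _ = e₂ B T p
    rw [B.add₂_comm, add₂_neg₂, x.2])
  add_comm x y := Subtype.ext (B.add₂_comm T x.1 y.1 _)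

end Groth.AbSchBiext
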