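import Groth.Agent.AbSchBiext.Main
import Groth.Agent.GrpschAbsch.AbSchRigid
import Groth.Agent.GrpschAbsch.FibreFlat
import Groth.Agent.AlgGrp1.Geom
import Groth.Prelude.Def_CGrpSh

/-!
# Biadditive maps between points of abelian schemes vanish
-/

set_option autoImplicit false
set_option backward.isDefEq.respectTransparency false
set_option linter.style.haveILetI false

universe u

open CategoryTheory Limits AlgebraicGeometry Opposite
open MonoidalCategory CartesianMonoidalCategory MonObj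

namespace Groth.AbSchBiext

variable {S : Scheme.{u}}

theorem geometricallyConnected_of_unit (A : Over S) [GrpObj A] [LocallyOfFiniteType A.hom]
    (hA : ∀ s : S, ConnectedSpace ↥(A.hom.fiber s)) : GeometricallyConnected A.hom := by
  refine (GeometricallyConnected.iff_geometricallyConnected_fiber A.hom).2 fun s => ?_
  haveI := hA s
  haveI : LocallyOfFiniteType (A.hom.fiberToSpecResidueField s) :=
    MorphismProperty.pullback_snd _ _ inferInstance
  let e : S ⟶ A.left := (η[A] : 𝟙_ (Over S) ⟶ A).left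
  have he : e ≫ A.hom = 𝟙 S := Over.w (η[A] : 𝟙_ (Over S) ⟶ A)
  exact Groth.AlgGrp1.geometricallyConnected_of_point (A.hom.fiberToSpecResidueField s)
    (pullback.lift (S.fromSpecResidueField s ≫ e) (𝟙 _) (by rw [Category.assoc, he, Category.comp_id, Category.id_comp]))
    (pullback.lift_snd _ _ _)

variable (A B C : Over S) [GrpObj A] [GrpObj B] [GrpObj C]

theorem eq_one_of_biadditive [Smooth A.hom] (hA : ∀ s : S, ConnectedSpace ↥(A.hom.fiber s))
    [Smooth B.hom] [IsProper B.hom] (hB : ∀ s : S, ConnectedSpace ↥(B.hom.fiber s)) [IsSeparated C.hom]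
    (v : ∀ T : Over S, (T ⟶ A) → (T ⟶ B) → (T ⟶ C))
    (hnat : ∀ {T T' : Over S} (f : T' ⟶ T) a b, f ≫ v T a b = v T' (f ≫ a) (f ≫ b))
    (h₁ : ∀ T a a' b, v T (a * a') b = v T a b * v T a' b)
    (h₂ : ∀ T a b b', v T a (b * b') = v T a b * v T a b')
    (T : Over S) (a : T ⟶ A) (b : T ⟶ B) : v T a b = 1 := by
  haveI := geometricallyConnected_of_unit A hA
  haveI := geometricallyConnected_of_unit B hB
  haveI := Groth.GrpschAbsch.FibreFlat.geometricallyReduced_of_smooth B.hom
  let d : A ⊗ B ⟶ C := v (A ⊗ B) (fst A B) (snd A B)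
  have hv : ∀ T (a : T ⟶ A) (b : T ⟶ B), v T a b = lift a b ≫ d := fun T a b => by
    rw [hnat, lift_fst, lift_snd]
  have hd : d = 1 := by
    refine Groth.GrpschAbsch.AbSchRigid.eq_one_of_axes A B C η[A] η[B] d ?_ ?_
    · rw [← hv, ← Hom.one_def]
      have := h₁ B 1 1 (𝟙 B)
      rwa [_root_.mul_one, left_eq_mul] at this
    · rw [← hv, ← Hom.one_def]
      have := h₂ A (𝟙 A) 1 1
      rwa [_root_.mul_one, left_eq_mul] at this
  rw [hv, hd, MonObj.comp_one]

variable [IsCommMonObj A] [IsCommMonObj B] [IsCommMonObj C]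

/-- Natural biadditive maps of sheaves of points of abelian schemes vanish. -/
theorem pts_biadditive_eq_zero [Smooth A.hom] (hA : ∀ s : S, ConnectedSpace ↥(A.hom.fiber s))
    [Smooth B.hom] [IsProper B.hom] (hB : ∀ s : S, ConnectedSpace ↥(B.hom.fiber s)) [IsSeparated C.hom]
    (K : Precoverage Scheme.{u}) [(QuotSh.J K S).Subcanonical]
    (w : ∀ T : Over S, (CGrpSh.pts K A).obj.obj (op T) → (CGrpSh.pts K B).obj.obj (op T) →
      (CGrpSh.pts K C).obj.obj (op T))
    (hnat : ∀ {T T' : Over S} (f : T' ⟶ T) x y, (CGrpSh.pts K C).obj.map f.op (w T x y) =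
      w T' ((CGrpSh.pts K A).obj.map f.op x) ((CGrpSh.pts K B).obj.map f.op y))
    (h₁ : ∀ T x x' y, w T (x + x') y = w T x y + w T x' y)
    (h₂ : ∀ T x y y', w T x (y + y') = w T x y + w T x y') (T : Over S)
    (x : (CGrpSh.pts K A).obj.obj (op T)) (y : (CGrpSh.pts K B).obj.obj (op T)) : w T x y = 0 := by
  let v : ∀ T : Over S, (T ⟶ A) → (T ⟶ B) → (T ⟶ C) := fun T a b =>
    (w T ⟨Additive.ofMul a⟩ ⟨Additive.ofMul b⟩).down.toMul
  have hv := eq_one_of_biadditive A B C hA hB v
    (fun f a b => congrArg (fun z => z.down.toMul) (hnat f ⟨Additive.ofMul a⟩ ⟨Additive.ofMul b⟩))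
    (fun T a a' b => congrArg (fun z => z.down.toMul) (h₁ T ⟨Additive.ofMul a⟩ ⟨Additive.ofMul a'⟩ ⟨Additive.ofMul b⟩))
    (fun T a b b' => congrArg (fun z => z.down.toMul) (h₂ T ⟨Additive.ofMul a⟩ ⟨Additive.ofMul b⟩ ⟨Additive.ofMul b'⟩))
    T x.down.toMul y.down.toMul
  exact ULift.ext _ _ (congrArg Additive.ofMul hv)

/-- Homomorphisms from an abelian scheme to the internal Hom of two abelian schemes vanish. -/
theorem hom_homSh_eq_zero [Smooth A.hom] (hA : ∀ s : S, ConnectedSpace ↥(A.hom.fiber s))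
    [Smooth B.hom] [IsProper B.hom] (hB : ∀ s : S, ConnectedSpace ↥(B.hom.fiber s)) [IsSeparated C.hom]
    (K : Precoverage Scheme.{u}) [(QuotSh.J K S).Subcanonical]
    (φ : CGrpSh.pts K A ⟶ HomSh.homSh (QuotSh.J K S) (CGrpSh.pts K B) (CGrpSh.pts K C)) : φ = 0 := by
  let w : ∀ T : Over S, (CGrpSh.pts K A).obj.obj (op T) → (CGrpSh.pts K B).obj.obj (op T) →
      (CGrpSh.pts K C).obj.obj (op T) := fun T x y =>
    val (φ.hom.app (op T) x : (CGrpSh.pts K B).over T ⟶ (CGrpSh.pts K C).over T) T (𝟙 T) y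
  have hw : ∀ {T U : Over S} (f : U ⟶ T) x q,
      val (φ.hom.app (op T) x : (CGrpSh.pts K B).over T ⟶ (CGrpSh.pts K C).over T) U f q =
        w U ((CGrpSh.pts K A).obj.map f.op x) q := fun {T U} f x q => by
    refine Eq.trans ?_ (congrArg (fun m : (CGrpSh.pts K B).over U ⟶ (CGrpSh.pts K C).over U => val m U (𝟙 U) q)
      (ConcreteCategory.congr_hom (φ.hom.naturality f.op) x)).symm
    exact (val_eq_of_eq _ (Category.id_comp f).symm q).trans (val_res f _ U (𝟙 U) q).symm
  have hzero := pts_biadditive_eq_zero A B C hA hB K w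
    (fun {T T'} f x y => by
      rw [val_map, ← hw]
      exact val_eq_of_eq _ (Category.comp_id f) _)
    (fun T x x' y => by
      refine Eq.trans ?_ (val_add_hom _ _ _ _ _)
      exact congrArg (fun m : (CGrpSh.pts K B).over T ⟶ (CGrpSh.pts K C).over T => val m T (𝟙 T) y)
        (map_add (φ.hom.app (op T)).hom x x'))
    (fun T x y y' => val_add _ _ _ _ _)
  refine Sheaf.hom_ext (NatTrans.ext (funext fun T => AddCommGrpCat.ext fun x => val_ext fun U f q => ?_))
  exact (hw f x q).trans (hzero U _ q)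

/-- Biextensions of abelian schemes are rigid. -/
theorem biext_rigid [Smooth A.hom] (hA : ∀ s : S, ConnectedSpace ↥(A.hom.fiber s))
    [Smooth B.hom] [IsProper B.hom] (hB : ∀ s : S, ConnectedSpace ↥(B.hom.fiber s)) [IsSeparated C.hom]
    (K : Precoverage Scheme.{u}) [(QuotSh.J K S).Subcanonical]
    (E : Biext (QuotSh.J K S) (CGrpSh.pts K A) (CGrpSh.pts K B) (CGrpSh.pts K C))
    (f : Biext.Hom (QuotSh.J K S) E E) : f = Biext.HomOver.id (QuotSh.J K S) E := by
  have hdiff : ∀ T x, ∃! g, E.act T g x = f.map T x := fun T x =>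
    E.existsUnique_act T x _ (f.πP_map T x).symm (f.πQ_map T x).symm
  choose δ hδ hδ' using hdiff
  have hδnat : ∀ {T U : Over S} (h : U ⟶ T) x,
      (CGrpSh.pts K C).obj.map h.op (δ T x) = δ U (E.E.obj.map h.op x) := fun {T U} h x => by
    refine hδ' U _ _ ?_
    dsimp only
    rw [← E.act_map, hδ, f.map_res]
  have hδconst : ∀ T x x', E.πP T x = E.πP T x' → E.πQ T x = E.πQ T x' → δ T x = δ T x' := fun T x x' h h' => by
    obtain ⟨g, rfl, -⟩ := E.existsUnique_act T x x' h h'
    refine hδ' T _ _ ?_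
    dsimp only
    rw [f.map_act]
    change E.act T (δ T x) (E.act T g x) = E.act T g (f.map T x)
    rw [← hδ T x, ← E.add_act, ← E.add_act, add_comm]
  have hb : ∀ T (p : (CGrpSh.pts K A).obj.obj (op T)) (q : (CGrpSh.pts K B).obj.obj (op T)),
      ∃ y, ∀ ⦃U : Over S⦄ (h : U ⟶ T) (x : E.E.obj.obj (op U)), E.πP U x = (CGrpSh.pts K A).obj.map h.op p →
        E.πQ U x = (CGrpSh.pts K B).obj.map h.op q → (CGrpSh.pts K C).obj.map h.op y = δ U x := by
    intro T p q
    obtain ⟨R, hR, hloc⟩ := E.locallySurjective T p q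
    obtain ⟨y, hy⟩ := exists_glue_unique (Biext.uSh (QuotSh.J K S) (CGrpSh.pts K C))
      (fun U h y => ∃ x, E.πP U x = (CGrpSh.pts K A).obj.map h.op p ∧
        E.πQ U x = (CGrpSh.pts K B).obj.map h.op q ∧ y = δ U x)
      (by
        rintro U V g h y ⟨x, hx, hx', hy⟩
        exact ⟨E.E.obj.map g.op x, by rw [E.πP_map, hx, map_map], by rw [E.πQ_map, hx', map_map],
          (congrArg ((CGrpSh.pts K C).obj.map g.op) hy).trans (hδnat g x)⟩)
      (by
        rintro U h y y' ⟨x, hx, hxq, hy⟩ ⟨x', hx', hxq', hy'⟩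
        exact hy.trans ((hδconst U x x' (hx.trans hx'.symm) (hxq.trans hxq'.symm)).trans hy'.symm))
      R hR (fun U h hh => (hloc h hh).elim fun x hx => ⟨δ U x, x, hx.1, hx.2, rfl⟩)
    refine ⟨y, fun U h x hx hx' => ab_ext_of_cover _ ((QuotSh.J K S).pullback_stable h hR) fun V g hg => ?_⟩
    obtain ⟨x', hxx, hxx', hy'⟩ := hy (g ≫ h) hg
    rw [map_map, hδnat]
    exact Eq.trans hy' (hδconst V _ _ (by rw [hxx, E.πP_map, hx, map_map]) (by rw [hxx', E.πQ_map, hx', map_map]))
  choose w hw using hb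
  have hw0 : ∀ T x, w T (E.πP T x) (E.πQ T x) = δ T x := fun T x => by
    have h := hw T _ _ (𝟙 T) x (by rw [op_id, (CGrpSh.pts K A).obj.map_id]; rfl)
      (by rw [op_id, (CGrpSh.pts K B).obj.map_id]; rfl)
    rw [op_id, (CGrpSh.pts K C).obj.map_id] at h
    exact h
  have hzero := pts_biadditive_eq_zero A B C hA hB K w
    (fun {T T'} g p q => by
      obtain ⟨R, hR, hloc⟩ := E.locallySurjective T' ((CGrpSh.pts K A).obj.map g.op p) ((CGrpSh.pts K B).obj.map g.op q)
      refine ab_ext_of_cover _ hR fun U h hh => ?_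
      obtain ⟨x, hx, hxq⟩ := hloc h hh
      rw [map_map, hw T p q (h ≫ g) x (hx.trans (map_map _ g h p)) (hxq.trans (map_map _ g h q)),
        hw T' _ _ h x hx hxq])
    (fun T p p' q => by
      obtain ⟨R, hR, hloc⟩ := E.locallySurjective T p q
      obtain ⟨R', hR', hloc'⟩ := E.locallySurjective T p' q
      refine ab_ext_of_cover _ ((QuotSh.J K S).intersection_covering hR hR') fun U h hh => ?_
      obtain ⟨x, hx, hxq⟩ := hloc h hh.1
      obtain ⟨x', hx', hxq'⟩ := hloc' h hh.2
      rw [map_add, hw T p q h x hx hxq, hw T p' q h x' hx' hxq',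
        hw T (p + p') q h (E.add₁ U x x' (hxq.trans hxq'.symm)) (by rw [E.πP_add₁, hx, hx', map_add])
          ((E.πQ_add₁ _ _ _ _).trans hxq)]
      refine (hδ' U _ _ ?_).symm
      dsimp only
      rw [f.map_add₁, add₁_congr E (hδ U x).symm (hδ U x').symm,
        E.add₁_act U _ x _ ((hxq.trans hxq'.symm).trans (E.πQ_act U _ x').symm),
        E.add₁_comm U x (E.act U _ x'),
        E.add₁_act U _ x' _ (hxq'.trans hxq.symm), E.add₁_comm U x' x, ← E.add_act])
    (fun T p q q' => by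
      obtain ⟨R, hR, hloc⟩ := E.locallySurjective T p q
      obtain ⟨R', hR', hloc'⟩ := E.locallySurjective T p q'
      refine ab_ext_of_cover _ ((QuotSh.J K S).intersection_covering hR hR') fun U h hh => ?_
      obtain ⟨x, hx, hxq⟩ := hloc h hh.1
      obtain ⟨x', hx', hxq'⟩ := hloc' h hh.2
      rw [map_add, hw T p q h x hx hxq, hw T p q' h x' hx' hxq',
        hw T p (q + q') h (E.add₂ U x x' (hx.trans hx'.symm)) ((E.πP_add₂ _ _ _ _).trans hx)
          (by rw [E.πQ_add₂, hxq, hxq', map_add])]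
      refine (hδ' U _ _ ?_).symm
      dsimp only
      rw [f.map_add₂, add₂_congr E (hδ U x).symm (hδ U x').symm,
        E.add₂_act U _ x _ ((hx.trans hx'.symm).trans (E.πP_act U _ x').symm),
        add₂_act_right E U _ x x' (hx.trans hx'.symm), ← E.add_act])
  refine Biext.HomOver.ext' (QuotSh.J K S) fun T x => ?_
  change f.map T x = x
  rw [← hδ T x, ← hw0, hzero, E.zero_act]

end Groth.AbSchBiext
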