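import Groth.Agent.AbSchBiext.Basic
import Mathlib.CategoryTheory.Sites.EpiMono
import Mathlib.CategoryTheory.Sites.LocallySurjective
import Mathlib.Algebra.Homology.ShortComplex.Ab
import Mathlib.Algebra.Homology.ShortComplex.ShortExact
import Mathlib.Algebra.Category.Grp.Abelian
import Mathlib.CategoryTheory.Sites.Abelian

/-!
# Sections of kernels and cokernels of abelian sheaves on a site
-/

set_option autoImplicit false
set_option backward.isDefEq.respectTransparency false
set_option linter.style.haveILetI false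

universe u

open CategoryTheory Opposite Limits

namespace Groth.AbSchBiext

variable {C : Type (u + 1)} [Category.{u} C] {J : GrothendieckTopology C}

/-- Kernels are computed on sections. -/
theorem exists_section_of_isKernel {K A A' : Sheaf J AddCommGrpCat.{u + 1}} {ι : K ⟶ A} {d : A ⟶ A'}
    (w : ι ≫ d = 0) (h : IsLimit (KernelFork.ofι ι w)) (T : C) (y : A.obj.obj (op T))
    (hy : d.hom.app (op T) y = 0) : ∃ z : K.obj.obj (op T), ι.hom.app (op T) z = y := by
  let F := sheafToPresheaf J AddCommGrpCat.{u + 1} ⋙ (evaluation Cᵒᵖ AddCommGrpCat.{u + 1}).obj (op T)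
  haveI : PreservesLimit (parallelPair d 0) F := inferInstance
  have hS := ((ShortComplex.mk ι d w).map F).exact_of_f_is_kernel (KernelFork.mapIsLimit _ h F)
  exact (ShortComplex.ab_exact_iff _).1 hS y hy

/-- A morphism which is injective on sections is a monomorphism. -/
theorem mono_of_injective_app {A A' : Sheaf J AddCommGrpCat.{u + 1}} (d : A ⟶ A')
    (h : ∀ T : C, Function.Injective (d.hom.app (op T))) : Mono d := by
  haveI : ∀ T, Mono (d.hom.app T) := fun T => (AddCommGrpCat.mono_iff_injective _).2 (h T.unop)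
  haveI : Mono d.hom := NatTrans.mono_of_mono_app _
  haveI : Mono ((sheafToPresheaf J AddCommGrpCat.{u + 1}).map d) := ‹Mono d.hom›
  exact (sheafToPresheaf J AddCommGrpCat.{u + 1}).mono_of_mono_map this

variable [HasSheafify J AddCommGrpCat.{u + 1}] [J.WEqualsLocallyBijective AddCommGrpCat.{u + 1}]

/-- A sequence of sheaves exact on sections on the left and locally surjective on the right is short exact. -/
theorem shortExact_of_sections {K A A' : Sheaf J AddCommGrpCat.{u + 1}} (ι : K ⟶ A) (d : A ⟶ A')
    (w : ι ≫ d = 0) (hι : ∀ T : C, Function.Injective (ι.hom.app (op T)))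
    (hker : ∀ (T : C) (y : A.obj.obj (op T)), d.hom.app (op T) y = 0 → ∃ z, ι.hom.app (op T) z = y)
    (hsurj : ∀ (T : C) (z : A'.obj.obj (op T)), ∃ R ∈ J T, ∀ ⦃U : C⦄ (f : U ⟶ T), R f →
      ∃ y : A.obj.obj (op U), d.hom.app (op U) y = A'.obj.map f.op z) :
    (ShortComplex.mk ι d w).ShortExact := by
  haveI := mono_of_injective_app ι hι
  haveI : Sheaf.IsLocallySurjective d := ⟨fun {U} z => by
    obtain ⟨R, hR, h⟩ := hsurj U z
    exact J.superset_covering (fun V g hg => h g hg) hR⟩
  haveI : Epi d := (Sheaf.isLocallySurjective_iff_epi' (A := AddCommGrpCat.{u + 1}) d).1 inferInstance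
  refine { exact := ?_ }
  refine ShortComplex.exact_of_f_is_kernel _ (KernelFork.IsLimit.ofι' ι w fun {Z} k hk => ?_)
  have hl : ∀ (T : Cᵒᵖ) (z : Z.obj.obj T), ∃ y, ι.hom.app T y = k.hom.app T z := fun T z => by
    refine hker (unop T) _ ?_
    exact ConcreteCategory.congr_hom (congrArg (fun m => m.hom.app T) hk) z
  choose l hl using hl
  have hadd : ∀ (T : Cᵒᵖ) (z z' : Z.obj.obj T), l T (z + z') = l T z + l T z' := fun T z z' => hι (unop T) (by
    change ι.hom.app T (l T (z + z')) = ι.hom.app T (l T z + l T z')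
    rw [hl, map_add, map_add, hl, hl])
  have hnat : ∀ {T U : Cᵒᵖ} (f : T ⟶ U) (z : Z.obj.obj T),
      l U (Z.obj.map f z) = K.obj.map f (l T z) := fun {T U} f z => by
    refine hι (unop U) ?_
    change ι.hom.app U (l U (Z.obj.map f z)) = ι.hom.app U (K.obj.map f (l T z))
    rw [hl]
    refine (ConcreteCategory.congr_hom (k.hom.naturality f) z).trans ?_
    refine Eq.trans ?_ (ConcreteCategory.congr_hom (ι.hom.naturality f) (l T z)).symm
    exact congrArg (A.obj.map f) (hl T z).symm
  exact ⟨ObjectProperty.homMk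
      { app := fun T => AddCommGrpCat.ofHom (AddMonoidHom.mk' (l T) (hadd T))
        naturality := fun T U f => AddCommGrpCat.ext fun z => hnat f z },
    Sheaf.hom_ext (NatTrans.ext (funext fun T => AddCommGrpCat.ext fun z => hl T z))⟩

/-- A section killed by the cokernel of a morphism is locally in the image. -/
theorem exists_local_preimage {A A' : Sheaf J AddCommGrpCat.{u + 1}} (d : A ⟶ A') (T : C)
    (y : A'.obj.obj (op T)) (hy : (cokernel.π d).hom.app (op T) y = 0) :
    ∃ R ∈ J T, ∀ ⦃U : C⦄ (f : U ⟶ T), R f →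
      ∃ a : A.obj.obj (op U), d.hom.app (op U) a = A'.obj.map f.op y := by
  obtain ⟨z, hz⟩ := exists_section_of_isKernel (kernel.condition _) (kernelIsKernel (cokernel.π d)) T y hy
  let e := kernel.lift (cokernel.π d) d (cokernel.condition d)
  have hex : (ShortComplex.mk d (cokernel.π d) (cokernel.condition d)).Exact :=
    ShortComplex.exact_of_g_is_cokernel _ (cokernelIsCokernel d)
  haveI : Epi e := hex.epi_kernelLift
  haveI : Sheaf.IsLocallySurjective e := (Sheaf.isLocallySurjective_iff_epi' (A := AddCommGrpCat.{u + 1}) e).2 inferInstance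
  refine ⟨_, Presheaf.imageSieve_mem J e.hom z, fun U f ⟨a, ha⟩ => ⟨a, ?_⟩⟩
  have h1 : d.hom.app (op U) a = (kernel.ι (cokernel.π d)).hom.app (op U) (e.hom.app (op U) a) :=
    (ConcreteCategory.congr_hom (congrArg (fun m => m.hom.app (op U)) (kernel.lift_ι (cokernel.π d) d _)) a).symm
  rw [h1, ha, ← hz]
  exact ConcreteCategory.congr_hom ((kernel.ι (cokernel.π d)).hom.naturality f.op) z

end Groth.AbSchBiext
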