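import Groth.Agent.AbSchBiext.SplSheaf
import Groth.Agent.AbSchBiext.Exactness

/-!
# A biextension of divisible sheaves with trivial inverse image by multiplications is trivial
-/

set_option autoImplicit false
set_option backward.isDefEq.respectTransparency false
set_option linter.style.haveILetI false
set_option maxHeartbeats 800000

universe u

open CategoryTheory Opposite Limits

namespace Groth.AbSchBiext

variable {C : Type (u + 1)} [Category.{u} C] {J : GrothendieckTopology C}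
  [HasSheafify J AddCommGrpCat.{u + 1}] [J.WEqualsLocallyBijective AddCommGrpCat.{u + 1}]
  {P Q G : Sheaf J AddCommGrpCat.{u + 1}}

omit [HasSheafify J AddCommGrpCat.{u + 1}] [J.WEqualsLocallyBijective AddCommGrpCat.{u + 1}] in
theorem zsmul_id_app (F : Sheaf J AddCommGrpCat.{u + 1}) (n : ℤ) (T : C) (x : F.obj.obj (op T)) :
    (n • 𝟙 F : F ⟶ F).hom.app (op T) x = n • x := by
  let ev : (F ⟶ F) →+ F.obj.obj (op T) := AddMonoidHom.mk' (fun φ => φ.hom.app (op T) x) fun _ _ => rfl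
  exact map_zsmul ev n (𝟙 F)

theorem exists_local_zsmul_preimage (F : Sheaf J AddCommGrpCat.{u + 1}) (n : ℤ) (hn : Epi (n • 𝟙 F))
    (T : C) (x : F.obj.obj (op T)) :
    ∃ R ∈ J T, ∀ ⦃U : C⦄ (f : U ⟶ T), R f → ∃ y : F.obj.obj (op U), n • y = F.obj.map f.op x := by
  let φ : F ⟶ F := n • 𝟙 F
  haveI : Epi φ := hn
  haveI : Sheaf.IsLocallySurjective φ :=
    (Sheaf.isLocallySurjective_iff_epi' (A := AddCommGrpCat.{u + 1}) φ).2 inferInstance
  exact ⟨_, Presheaf.imageSieve_mem J φ.hom x,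
    fun U f ⟨y, hy⟩ => ⟨y, (zsmul_id_app F n U y).symm.trans hy⟩⟩

theorem eq_e₁_of_zsmul_eq_zero (B : Biext J P Q G) (n m : ℤ) (hQn : Epi (n • 𝟙 Q))
    (τ : ∀ T : C, P.obj.obj (op T) → Q.obj.obj (op T) → B.E.obj.obj (op T))
    (hτP : ∀ T p q, B.πP T (τ T p q) = n • p) (hτQ : ∀ T p q, B.πQ T (τ T p q) = m • q)
    (hτmap : ∀ {T U : C} (f : U ⟶ T) p q,
      B.E.obj.map f.op (τ T p q) = τ U (P.obj.map f.op p) (Q.obj.map f.op q))
    (hτ₁ : ∀ T p p' q, τ T (p + p') q = B.add₁ T (τ T p q) (τ T p' q) ((hτQ T p q).trans (hτQ T p' q).symm))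
    (hτ₂ : ∀ T p q q', τ T p (q + q') = B.add₂ T (τ T p q) (τ T p q') ((hτP T p q).trans (hτP T p q').symm))
    (T : C) (a : P.obj.obj (op T)) (q : Q.obj.obj (op T)) (ha : n • a = 0) : τ T a q = e₁ B T (m • q) := by
  have hexu : ∀ (U : C) (a : (zsmulAddGroupHom (α := P.obj.obj (op U)) n).ker) (q : Q.obj.obj (op U)),
      ∃! g, B.act U g (e₁ B U (m • q)) = τ U a.1 q := fun U a q =>
    B.existsUnique_act U _ _ ((πP_e₁ B U _).trans ((hτP U a.1 q).trans a.2).symm)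
      ((πQ_e₁ B U _).trans (hτQ U a.1 q).symm)
  choose b hb hb' using hexu
  have hb₁ : ∀ U a a' q, b U (a + a') q = b U a q + b U a' q := fun U a a' q => by
    refine (hb' U (a + a') q _ ?_).symm
    change B.act U (b U a q + b U a' q) (e₁ B U (m • q)) = τ U (a.1 + a'.1) q
    rw [hτ₁, add₁_congr B (hb U a q).symm (hb U a' q).symm,
      B.add₁_act U _ (e₁ B U (m • q)) _ (B.πQ_act U _ _).symm, B.add₁_comm,
      B.add₁_act U _ (e₁ B U (m • q)) _ rfl, e₁_add₁_self, ← B.add_act]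
  have hb₂ : ∀ U a q q', b U a (q + q') = b U a q + b U a q' := fun U a q q' => by
    refine (hb' U a (q + q') _ ?_).symm
    change B.act U (b U a q + b U a q') (e₁ B U (m • (q + q'))) = τ U a.1 (q + q')
    have h0 : B.πP U (e₁ B U (m • q)) = B.πP U (e₁ B U (m • q')) := (πP_e₁ B U _).trans (πP_e₁ B U _).symm
    rw [hτ₂, add₂_congr B (hb U a q).symm (hb U a q').symm,
      B.add₂_act U _ (e₁ B U (m • q)) _ (h0.trans (B.πP_act U _ _).symm), add₂_act_right B U _ _ _ h0,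
      ← e₁_add, ← B.add_act, smul_add]
  suffices h : b T ⟨a, ha⟩ q = 0 by rw [← hb T ⟨a, ha⟩ q, h, B.zero_act]
  obtain ⟨R, hR, hloc⟩ := exists_local_zsmul_preimage Q n hQn T q
  refine ab_ext_of_cover G hR fun U f hf => ?_
  obtain ⟨q₀, hq₀⟩ := hloc f hf
  have ha' : n • P.obj.map f.op a = 0 := by rw [← map_zsmul, ha, map_zero]
  have hnat : G.obj.map f.op (b T ⟨a, ha⟩ q) = b U ⟨_, ha'⟩ (Q.obj.map f.op q) := by
    refine hb' U ⟨_, ha'⟩ _ _ ?_
    change B.act U _ (e₁ B U (m • Q.obj.map f.op q)) = τ U (P.obj.map f.op a) (Q.obj.map f.op q)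
    rw [← hτmap, ← hb T ⟨a, ha⟩ q, B.act_map, map_e₁, map_zsmul]
  rw [map_zero, hnat, ← hq₀]
  have h2 : b U ⟨_, ha'⟩ (n • q₀) = n • b U ⟨_, ha'⟩ q₀ := map_zsmul (AddMonoidHom.mk' (b U ⟨_, ha'⟩) (hb₂ U _)) n q₀
  have h1 : b U (n • ⟨_, ha'⟩) q₀ = n • b U ⟨_, ha'⟩ q₀ :=
    map_zsmul (AddMonoidHom.mk' (fun a => b U a q₀) (fun a a' => hb₁ U a a' q₀)) n ⟨_, ha'⟩
  have h3 : b U 0 q₀ = 0 := map_zero (AddMonoidHom.mk' (fun a => b U a q₀) (fun a a' => hb₁ U a a' q₀))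
  rw [h2, ← h1, show n • (⟨_, ha'⟩ : (zsmulAddGroupHom (α := P.obj.obj (op U)) n).ker) = 0 from Subtype.ext ha', h3]

theorem isTrivial_of_zsmul (B B' : Biext J P Q G) (n m : ℤ)
    (hP : ∀ k : ℤ, k ≠ 0 → Epi (k • 𝟙 P)) (hQ : ∀ k : ℤ, k ≠ 0 → Epi (k • 𝟙 Q)) (hn : n ≠ 0) (hm : m ≠ 0)
    (φ : Biext.HomOver J (n • 𝟙 P) (m • 𝟙 Q) (𝟙 G) B' B) (hB' : Biext.IsTrivial J B') :
    Biext.IsTrivial J B := by
  obtain ⟨S⟩ := hB'
  let τ : ∀ T : C, P.obj.obj (op T) → Q.obj.obj (op T) → B.E.obj.obj (op T) := fun T p q => φ.map T (S.σ T p q)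
  have hτP : ∀ T p q, B.πP T (τ T p q) = n • p := fun T p q =>
    (φ.πP_map T _).trans ((congrArg _ (S.πP_σ T p q)).trans (zsmul_id_app P n T p))
  have hτQ : ∀ T p q, B.πQ T (τ T p q) = m • q := fun T p q =>
    (φ.πQ_map T _).trans ((congrArg _ (S.πQ_σ T p q)).trans (zsmul_id_app Q m T q))
  have hτmap : ∀ {T U : C} (f : U ⟶ T) p q,
      B.E.obj.map f.op (τ T p q) = τ U (P.obj.map f.op p) (Q.obj.map f.op q) := fun {T U} f p q =>
    (φ.map_res f _).symm.trans (congrArg (φ.map U) (S.σ_map f p q))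
  have hτ₁ : ∀ T p p' q, τ T (p + p') q = B.add₁ T (τ T p q) (τ T p' q) ((hτQ T p q).trans (hτQ T p' q).symm) :=
    fun T p p' q => (congrArg (φ.map T) (S.σ_add₁ T p p' q)).trans (φ.map_add₁ T _ _ _)
  have hτ₂ : ∀ T p q q', τ T p (q + q') = B.add₂ T (τ T p q) (τ T p q') ((hτP T p q).trans (hτP T p q').symm) :=
    fun T p q q' => (congrArg (φ.map T) (S.σ_add₂ T p q q')).trans (φ.map_add₂ T _ _ _)
  -- sections over zero
  have hzero₁ : ∀ T (a : P.obj.obj (op T)) (q : Q.obj.obj (op T)), n • a = 0 → τ T a q = e₁ B T (m • q) :=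
    eq_e₁_of_zsmul_eq_zero B n m (hQ n hn) τ hτP hτQ hτmap hτ₁ hτ₂
  have hzero₂ : ∀ T (p : P.obj.obj (op T)) (a : Q.obj.obj (op T)), m • a = 0 → τ T p a = e₂ B T (n • p) :=
    fun T p a ha => eq_e₁_of_zsmul_eq_zero (swap B) m n (hP m hm) (fun T q p => τ T p q)
      (fun T q p => hτQ T p q) (fun T q p => hτP T p q) (fun f q p => hτmap f p q)
      (fun T q q' p => hτ₂ T p q q') (fun T q p p' => hτ₁ T p p' q) T a p ha
  have hind : ∀ T p p' q q', n • p = n • p' → m • q = m • q' → τ T p q = τ T p' q' := by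
    intro T p p' q q' hp hq
    have h1 : τ T p q = τ T p' q := by
      rw [show p = (p - p') + p' by abel, hτ₁, add₁_congr B (hzero₁ T (p - p') q (by rw [smul_sub, hp, sub_self])) rfl]
      exact e₁_add₁ B T _ _ (hτQ T p' q)
    have h2 : τ T p' q = τ T p' q' := by
      rw [show q = (q - q') + q' by abel, hτ₂, add₂_congr B (hzero₂ T p' (q - q') (by rw [smul_sub, hq, sub_self])) rfl]
      exact e₂_add₂ B T _ _ (hτP T p' q')
    exact h1.trans h2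
  have hσ : ∀ T (p : P.obj.obj (op T)) (q : Q.obj.obj (op T)), ∃ x : B.E.obj.obj (op T),
      ∀ ⦃U : C⦄ (f : U ⟶ T) p₀ q₀, n • p₀ = P.obj.map f.op p → m • q₀ = Q.obj.map f.op q →
        B.E.obj.map f.op x = τ U p₀ q₀ := by
    intro T p q
    obtain ⟨R, hR, hloc⟩ := exists_local_zsmul_preimage P n (hP n hn) T p
    obtain ⟨R', hR', hloc'⟩ := exists_local_zsmul_preimage Q m (hQ m hm) T q
    obtain ⟨x, hx⟩ := exists_glue_unique B.E
      (fun U f y => ∃ p₀ q₀, n • p₀ = P.obj.map f.op p ∧ m • q₀ = Q.obj.map f.op q ∧ y = τ U p₀ q₀)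
      (by
        rintro U V g f y ⟨p₀, q₀, h1, h2, rfl⟩
        exact ⟨P.obj.map g.op p₀, Q.obj.map g.op q₀, by rw [← map_zsmul, h1, map_map],
          by rw [← map_zsmul, h2, map_map], hτmap g p₀ q₀⟩)
      (by
        rintro U f y y' ⟨p₀, q₀, h1, h2, rfl⟩ ⟨p₁, q₁, h3, h4, rfl⟩
        exact hind U p₀ p₁ q₀ q₁ (h1.trans h3.symm) (h2.trans h4.symm))
      (R ⊓ R') (J.intersection_covering hR hR') (fun U f hf => by
        obtain ⟨p₀, hp₀⟩ := hloc f hf.1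
        obtain ⟨q₀, hq₀⟩ := hloc' f hf.2
        exact ⟨_, p₀, q₀, hp₀, hq₀, rfl⟩)
    refine ⟨x, fun U f p₀ q₀ h1 h2 => ext_of_cover B.E (J.pullback_stable f (J.intersection_covering hR hR'))
      fun V g hg => ?_⟩
    obtain ⟨p₁, q₁, h3, h4, hy⟩ := hx (g ≫ f) hg
    rw [map_mapE, hy, hτmap]
    refine hind V _ _ _ _ ?_ ?_
    · rw [h3, ← map_zsmul, h1, map_map]
    · rw [h4, ← map_zsmul, h2, map_map]
  choose σ hσ using hσ
  have hcov : ∀ T (p : P.obj.obj (op T)) (q : Q.obj.obj (op T)), ∃ R ∈ J T, ∀ ⦃U : C⦄ (f : U ⟶ T), R f →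
      ∃ p₀ q₀, n • p₀ = P.obj.map f.op p ∧ m • q₀ = Q.obj.map f.op q := fun T p q => by
    obtain ⟨R, hR, hloc⟩ := exists_local_zsmul_preimage P n (hP n hn) T p
    obtain ⟨R', hR', hloc'⟩ := exists_local_zsmul_preimage Q m (hQ m hm) T q
    exact ⟨_, J.intersection_covering hR hR', fun U f hf => ⟨_, _, (hloc f hf.1).choose_spec, (hloc' f hf.2).choose_spec⟩⟩
  have hσP : ∀ T p q, B.πP T (σ T p q) = p := fun T p q => by
    obtain ⟨R, hR, hloc⟩ := hcov T p q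
    refine ab_ext_of_cover P hR fun U f hf => ?_
    obtain ⟨p₀, q₀, h1, h2⟩ := hloc f hf
    rw [← B.πP_map, hσ T p q f p₀ q₀ h1 h2, hτP, h1]
  have hσQ : ∀ T p q, B.πQ T (σ T p q) = q := fun T p q => by
    obtain ⟨R, hR, hloc⟩ := hcov T p q
    refine ab_ext_of_cover Q hR fun U f hf => ?_
    obtain ⟨p₀, q₀, h1, h2⟩ := hloc f hf
    rw [← B.πQ_map, hσ T p q f p₀ q₀ h1 h2, hτQ, h2]
  refine ⟨{ σ := σ, πP_σ := hσP, πQ_σ := hσQ, σ_map := fun {T T'} f p q => ?_,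
            σ_add₁ := fun T p p' q => ?_, σ_add₂ := fun T p q q' => ?_ }⟩
  · obtain ⟨R, hR, hloc⟩ := hcov T' (P.obj.map f.op p) (Q.obj.map f.op q)
    refine ext_of_cover B.E hR fun U g hg => ?_
    obtain ⟨p₀, q₀, h1, h2⟩ := hloc g hg
    rw [map_mapE, hσ T' _ _ g p₀ q₀ h1 h2,
      hσ T p q (g ≫ f) p₀ q₀ (h1.trans (map_map _ f g p)) (h2.trans (map_map _ f g q))]
  · obtain ⟨R, hR, hloc⟩ := hcov T p q
    obtain ⟨R', hR', hloc'⟩ := hcov T p' q
    refine ext_of_cover B.E (J.intersection_covering hR hR') fun U f hf => ?_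
    obtain ⟨p₀, q₀, h1, h2⟩ := hloc f hf.1
    obtain ⟨p₁, q₁, h3, h4⟩ := hloc' f hf.2
    rw [B.add₁_map, hσ T (p + p') q f (p₀ + p₁) q₀ (by rw [smul_add, h1, h3, map_add]) h2, hτ₁]
    exact add₁_congr B (hσ T p q f p₀ q₀ h1 h2).symm (hσ T p' q f p₁ q₀ h3 h2).symm _
  · obtain ⟨R, hR, hloc⟩ := hcov T p q
    obtain ⟨R', hR', hloc'⟩ := hcov T p q'
    refine ext_of_cover B.E (J.intersection_covering hR hR') fun U f hf => ?_
    obtain ⟨p₀, q₀, h1, h2⟩ := hloc f hf.1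
    obtain ⟨p₁, q₁, h3, h4⟩ := hloc' f hf.2
    rw [B.add₂_map, hσ T p (q + q') f p₀ (q₀ + q₁) h1 (by rw [smul_add, h2, h4, map_add]), hτ₂]
    exact add₂_congr B (hσ T p q f p₀ q₀ h1 h2).symm (hσ T p q' f p₀ q₁ h1 h4).symm _

end Groth.AbSchBiext
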