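import Groth.Agent.AbSchBiext.Basic
import Mathlib.CategoryTheory.Sites.Sheafification
import Mathlib.CategoryTheory.Abelian.Injective.Basic
import Mathlib.Algebra.Category.Grp.EnoughInjectives
import Mathlib.Data.Finsupp.Basic

/-!
# Linearisation of a biextension in the second variable

For a monomorphism of the structure group into an injective sheaf, the second law of a biextension is linearised by
a natural map to that injective sheaf, equivariant and additive for the second law.
-/

set_option autoImplicit false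
set_option backward.isDefEq.respectTransparency false
set_option maxHeartbeats 800000
set_option linter.style.haveILetI false

universe u

open CategoryTheory Opposite Limits

namespace Groth.AbSchBiext

variable {C : Type (u + 1)} [Category.{u} C] {J : GrothendieckTopology C}
  {P Q G : Sheaf J AddCommGrpCat.{u + 1}} (B : Biext J P Q G)

/-- Formal sums of sections of the biextension and of the structure group. -/
abbrev Free (T : C) : Type (u + 1) := (B.E.obj.obj (op T) →₀ ℤ) × G.obj.obj (op T)

/-- Generator of a section. -/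
noncomputable abbrev gen (T : C) (x : B.E.obj.obj (op T)) : Free B T := (Finsupp.single x 1, 0)

/-- The relations of the second law and of the action. -/
noncomputable def rel (T : C) : AddSubgroup (Free B T) :=
  AddSubgroup.closure ({z | ∃ (g : G.obj.obj (op T)) (x : B.E.obj.obj (op T)),
      z = gen B T (B.act T g x) - gen B T x - (0, g)} ∪
    {z | ∃ (x y : B.E.obj.obj (op T)) (h : B.πP T x = B.πP T y),
      z = gen B T (B.add₂ T x y h) - gen B T x - gen B T y})

/-- Restriction of formal sums. -/
noncomputable def freeMap {T U : Cᵒᵖ} (f : T ⟶ U) : Free B (unop T) →+ Free B (unop U) :=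
  AddMonoidHom.prodMap (Finsupp.mapDomain.addMonoidHom (fun x => B.E.obj.map f x)) (G.obj.map f).hom

theorem freeMap_gen {T U : Cᵒᵖ} (f : T ⟶ U) (x : B.E.obj.obj T) :
    freeMap B f (gen B (unop T) x) = gen B (unop U) (B.E.obj.map f x) := by
  simp [freeMap, gen]

theorem freeMap_zero_pair {T U : Cᵒᵖ} (f : T ⟶ U) (g : G.obj.obj T) :
    freeMap B f (0, g) = (0, G.obj.map f g) := by
  simp [freeMap]

theorem rel_le_comap {T U : Cᵒᵖ} (f : T ⟶ U) : rel B (unop T) ≤ (rel B (unop U)).comap (freeMap B f) := by
  refine (AddSubgroup.closure_le _).2 ?_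
  rintro z (⟨g, x, rfl⟩ | ⟨x, y, h, rfl⟩)
  · refine AddSubgroup.subset_closure (Or.inl ⟨G.obj.map f g, B.E.obj.map f x, ?_⟩)
    rw [map_sub, map_sub, freeMap_gen, freeMap_gen, freeMap_zero_pair]
    have := B.act_map f.unop g x
    rw [Quiver.Hom.op_unop] at this
    rw [this]
  · have h' : B.πP (unop U) (B.E.obj.map f x) = B.πP (unop U) (B.E.obj.map f y) := by
      have e1 := B.πP_map f.unop x
      have e2 := B.πP_map f.unop y
      rw [Quiver.Hom.op_unop] at e1 e2
      rw [e1, e2, h]
    refine AddSubgroup.subset_closure (Or.inr ⟨B.E.obj.map f x, B.E.obj.map f y, h', ?_⟩)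
    rw [map_sub, map_sub, freeMap_gen, freeMap_gen, freeMap_gen]
    have := B.add₂_map f.unop x y h
    simp only [Quiver.Hom.op_unop] at this
    rw [this]

/-- The linearised presheaf. -/
noncomputable def linPre : Cᵒᵖ ⥤ AddCommGrpCat.{u + 1} where
  obj T := AddCommGrpCat.of (Free B (unop T) ⧸ rel B (unop T))
  map f := AddCommGrpCat.ofHom (QuotientAddGroup.map _ _ (freeMap B f) (rel_le_comap B f))
  map_id T := by
    ext z
    obtain ⟨a, g⟩ := z
    have h1 : (fun x => (B.E.obj.map (𝟙 T)) x) = id := funext fun x => by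
      rw [B.E.obj.map_id]; rfl
    change QuotientAddGroup.mk (freeMap B (𝟙 T) (a, g)) = QuotientAddGroup.mk (a, g)
    congr 1
    refine Prod.ext ?_ ?_
    · change Finsupp.mapDomain (fun x => (B.E.obj.map (𝟙 T)) x) a = a
      rw [h1, Finsupp.mapDomain_id]
    · change G.obj.map (𝟙 T) g = g
      rw [G.obj.map_id]; rfl
  map_comp {T U V} f f' := by
    ext z
    obtain ⟨a, g⟩ := z
    have h1 : (fun x => (B.E.obj.map (f ≫ f')) x) = (fun x => B.E.obj.map f' x) ∘ (fun x => B.E.obj.map f x) :=
      funext fun x => by rw [B.E.obj.map_comp]; rfl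
    change QuotientAddGroup.mk (freeMap B (f ≫ f') (a, g)) =
      QuotientAddGroup.mk (freeMap B f' (freeMap B f (a, g)))
    congr 1
    refine Prod.ext ?_ ?_
    · change Finsupp.mapDomain (fun x => (B.E.obj.map (f ≫ f')) x) a =
        Finsupp.mapDomain (fun x => B.E.obj.map f' x) (Finsupp.mapDomain (fun x => B.E.obj.map f x) a)
      rw [h1, Finsupp.mapDomain_comp]
    · change G.obj.map (f ≫ f') g = G.obj.map f' (G.obj.map f g)
      rw [G.obj.map_comp]; rfl

/-- The class of a formal sum. -/
noncomputable abbrev cls (T : C) : Free B T →+ Free B T ⧸ rel B T := QuotientAddGroup.mk' (rel B T)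

/-- The structure group inside the linearised presheaf. -/
noncomputable def linι : G.obj ⟶ linPre B where
  app T := AddCommGrpCat.ofHom ((cls B (unop T)).comp (AddMonoidHom.inr _ _))
  naturality {T U} f := by
    ext g
    change QuotientAddGroup.mk (0, G.obj.map f g) = QuotientAddGroup.mk (freeMap B f (0, g))
    rw [freeMap_zero_pair]

theorem linι_injective (T : Cᵒᵖ) : Function.Injective ((linι B).app T) := by
  let D := Injective.under (G.obj.obj T)
  let j : G.obj.obj T ⟶ D := Injective.ι (G.obj.obj T)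
  have hj : Function.Injective j := (AddCommGrpCat.mono_iff_injective j).1 inferInstance
  have hext : ∀ p : P.obj.obj T, ∃ F : Fib₂ B (unop T) p → D,
      (∀ (x y : Fib₂ B (unop T) p), F ⟨B.add₂ _ x.1 y.1 (x.2.trans y.2.symm), (B.πP_add₂ _ _ _ _).trans x.2⟩ =
        F x + F y) ∧
      (∀ (g : G.obj.obj T) (x : Fib₂ B (unop T) p), F ⟨B.act _ g x.1, (B.πP_act _ g x.1).trans x.2⟩ = j g + F x) := by
    intro p
    letI := fibGroup₂ B (unop T) p
    let k : G.obj.obj T →+ Fib₂ B (unop T) p := AddMonoidHom.mk'
      (fun g => ⟨B.act _ g (e₂ B _ p), (B.πP_act _ _ _).trans (πP_e₂ B _ p)⟩) (fun g g' => Subtype.ext (by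
        change B.act _ (g + g') _ = B.add₂ _ (B.act _ g _) (B.act _ g' _) _
        rw [B.add₂_act _ g _ _ (B.πP_act (unop T) g' _).symm,
          add₂_act_right B _ g' _ _ rfl, ← B.add_act]
        exact congrArg _ (e₂_add₂ B _ _ _ (πP_e₂ B _ p)).symm))
    have hk : Function.Injective k := by
      intro g g' h
      exact (B.existsUnique_act _ (e₂ B _ p) _ (B.πP_act _ g _).symm (B.πQ_act _ g _).symm).unique rfl
        (congrArg Subtype.val h).symm
    haveI : Mono (AddCommGrpCat.ofHom k) := (AddCommGrpCat.mono_iff_injective _).2 hk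
    let F := Injective.factorThru j (AddCommGrpCat.ofHom k)
    refine ⟨F, fun x y => map_add F.hom x y, fun g x => ?_⟩
    have h1 : (⟨B.act _ g x.1, (B.πP_act _ g x.1).trans x.2⟩ : Fib₂ B (unop T) p) = k g + x :=
      Subtype.ext (by
        change B.act _ g x.1 = B.add₂ _ (B.act _ g (e₂ B _ p)) x.1 _
        rw [B.add₂_act _ g _ x.1 ((πP_e₂ B _ p).trans x.2.symm), e₂_add₂ B _ x.1 p x.2])
    rw [h1]
    refine (map_add F.hom (k g) x).trans (congrArg (· + F x) ?_)
    exact congrArg (fun m => m g) (congrArg (fun m => (m.hom : G.obj.obj T →+ D))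
      (Injective.comp_factorThru j (AddCommGrpCat.ofHom k)))
  choose F hF hFg using hext
  let ψ : B.E.obj.obj T → D := fun x => F _ ⟨x, rfl⟩
  have hψ : ∀ p x (h : B.πP (unop T) x = p), ψ x = F p ⟨x, h⟩ := by rintro p x rfl; rfl
  let Φ : Free B (unop T) →+ D :=
    (Finsupp.liftAddHom fun x => zmultiplesHom D (ψ x)).coprod j.hom
  have hgen : ∀ x, Φ (gen B (unop T) x) = ψ x := fun x => by simp [Φ, gen]
  have hpair : ∀ g, Φ (0, g) = j g := fun g => by simp [Φ]
  have hle : rel B (unop T) ≤ Φ.ker := by
    refine (AddSubgroup.closure_le _).2 ?_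
    rintro z (⟨g, x, rfl⟩ | ⟨x, y, h, rfl⟩)
    · change Φ _ = 0
      rw [map_sub, map_sub, hgen, hgen, hpair, hψ _ _ (B.πP_act _ g x), hψ _ x rfl,
        hFg _ g ⟨x, rfl⟩]
      abel
    · change Φ _ = 0
      rw [map_sub, map_sub, hgen, hgen, hgen, hψ _ _ (B.πP_add₂ _ x y h), hψ _ x rfl, hψ _ y h.symm,
        hF _ ⟨x, rfl⟩ ⟨y, h.symm⟩]
      abel
  intro g g' h
  refine hj ?_
  have := congrArg (QuotientAddGroup.lift _ Φ hle) h
  change Φ (0, g) = Φ (0, g') at this
  rwa [hpair, hpair] at this

/-- Linearisation of the second law into an injective sheaf containing the structure group. -/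
theorem exists_linearisation [HasSheafify J AddCommGrpCat.{u + 1}] {I : Sheaf J AddCommGrpCat.{u + 1}}
    [Injective I] (ι : G ⟶ I) :
    ∃ ψ : ∀ T : C, B.E.obj.obj (op T) → I.obj.obj (op T),
      (∀ {T U : C} (f : U ⟶ T) x, I.obj.map f.op (ψ T x) = ψ U (B.E.obj.map f.op x)) ∧
      (∀ (T : C) g x, ψ T (B.act T g x) = ι.hom.app (op T) g + ψ T x) ∧
      (∀ (T : C) x y (h : B.πP T x = B.πP T y), ψ T (B.add₂ T x y h) = ψ T x + ψ T y) := by
  haveI : ∀ T, Mono ((linι B).app T) := fun T => (AddCommGrpCat.mono_iff_injective _).2 (linι_injective B T)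
  haveI : Mono (linι B) := NatTrans.mono_of_mono_app _
  let L : Sheaf J AddCommGrpCat.{u + 1} := (presheafToSheaf J _).obj (linPre B)
  let η : linPre B ⟶ L.obj := (sheafificationAdjunction J AddCommGrpCat.{u + 1}).unit.app (linPre B)
  let m : G ⟶ L := ⟨linι B ≫ η⟩
  haveI : Mono m := by
    haveI : Mono ((presheafToSheaf J AddCommGrpCat.{u + 1}).map (linι B)) := inferInstance
    have h : (sheafificationAdjunction J AddCommGrpCat.{u + 1}).counit.app G ≫ m =
        (presheafToSheaf J AddCommGrpCat.{u + 1}).map (linι B) := by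
      refine ((sheafificationAdjunction J AddCommGrpCat.{u + 1}).homEquiv _ _).injective ?_
      rw [Adjunction.homEquiv_unit, Adjunction.homEquiv_unit, Functor.map_comp, ← Category.assoc]
      erw [(sheafificationAdjunction J AddCommGrpCat.{u + 1}).right_triangle_components G]
      rw [Category.id_comp]
      exact (sheafificationAdjunction J AddCommGrpCat.{u + 1}).unit.naturality (linι B)
    haveI : IsIso ((sheafificationAdjunction J AddCommGrpCat.{u + 1}).counit.app G) := inferInstance
    rw [← IsIso.eq_inv_comp] at h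
    rw [h]
    infer_instance
  let χ : linPre B ⟶ I.obj := η ≫ (Injective.factorThru ι m).hom
  have hχ : linι B ≫ χ = ι.hom := by
    rw [← Category.assoc]
    exact congrArg (fun k => k.hom) (Injective.comp_factorThru ι m)
  let X : ∀ T : C, Free B T →+ I.obj.obj (op T) := fun T => (χ.app (op T)).hom.comp (cls B T)
  have hX : ∀ (T : C) z, z ∈ rel B T → X T z = 0 := fun T z hz => by
    change χ.app (op T) (cls B T z) = 0
    rw [show cls B T z = 0 from (QuotientAddGroup.eq_zero_iff z).2 hz]
    exact map_zero _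
  refine ⟨fun T x => X T (gen B T x), fun {T U} f x => ?_, fun T g x => ?_, fun T x y h => ?_⟩
  · refine (ConcreteCategory.congr_hom (χ.naturality f.op) (cls B T (gen B T x))).symm.trans ?_
    change χ.app (op U) (cls B U (freeMap B f.op (gen B T x))) = χ.app (op U) (cls B U _)
    rw [freeMap_gen]
  · have h1 := hX T _ (AddSubgroup.subset_closure (Or.inl ⟨g, x, rfl⟩))
    rw [map_sub, map_sub, sub_eq_zero, sub_eq_iff_eq_add] at h1
    change X T (gen B T (B.act T g x)) = ι.hom.app (op T) g + X T (gen B T x)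
    rw [h1, ← hχ]
    rfl
  · have h1 := hX T _ (AddSubgroup.subset_closure (Or.inr ⟨x, y, h, rfl⟩))
    rw [map_sub, map_sub, sub_eq_zero, sub_eq_iff_eq_add] at h1
    exact h1.trans (add_comm _ _)

end Groth.AbSchBiext
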