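import Groth.Agent.AbSchBiext.Basic
import Mathlib.Algebra.Category.Grp.Limits
import Mathlib.CategoryTheory.Sites.Whiskering

/-!
# The sheaf of partial splittings of a biextension

A partial splitting over `T` is a section `p` of the first group together with a splitting, additive in the second
variable, of the second law over `p`; these form an abelian sheaf over the first group under the first law.
-/

set_option autoImplicit false
set_option backward.isDefEq.respectTransparency false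
set_option maxHeartbeats 800000

universe u

open CategoryTheory Opposite

namespace Groth.AbSchBiext

variable {C : Type (u + 1)} [Category.{u} C] {J : GrothendieckTopology C}
  {P Q G : Sheaf J AddCommGrpCat.{u + 1}} (B : Biext J P Q G)

theorem add₁_congr {T : C} {x x' y y' : B.E.obj.obj (op T)} (hx : x = x') (hy : y = y')
    (h : B.πQ T x = B.πQ T y) : B.add₁ T x y h = B.add₁ T x' y' (hx ▸ hy ▸ h) := by
  subst hx; subst hy; rfl

/-- The neutral section of the first law over `q`. -/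
noncomputable abbrev e₁ (T : C) (q : Q.obj.obj (op T)) : B.E.obj.obj (op T) := e₂ (swap B) T q

theorem πQ_e₁ (T : C) (q : Q.obj.obj (op T)) : B.πQ T (e₁ B T q) = q := πP_e₂ (swap B) T q

theorem πP_e₁ (T : C) (q : Q.obj.obj (op T)) : B.πP T (e₁ B T q) = 0 := πQ_e₂ (swap B) T q

theorem map_e₁ {T U : C} (f : U ⟶ T) (q : Q.obj.obj (op T)) :
    B.E.obj.map f.op (e₁ B T q) = e₁ B U (Q.obj.map f.op q) := map_e₂ (swap B) f q

theorem e₁_add₁ (T : C) (x : B.E.obj.obj (op T)) (q : Q.obj.obj (op T)) (h : B.πQ T x = q) :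
    B.add₁ T (e₁ B T q) x ((πQ_e₁ B T q).trans h.symm) = x := e₂_add₂ (swap B) T x q h

theorem e₁_add₁_self (T : C) (q : Q.obj.obj (op T)) :
    B.add₁ T (e₁ B T q) (e₁ B T q) rfl = e₁ B T q := e₁_add₁ B T _ q (πQ_e₁ B T q)

theorem e₁_add (T : C) (q q' : Q.obj.obj (op T)) :
    e₁ B T (q + q') =
      B.add₂ T (e₁ B T q) (e₁ B T q') ((πP_e₁ B T q).trans (πP_e₁ B T q').symm) := by
  refine isZero₂_unique (swap B) (exists_isZero₂ (swap B) T _).choose_spec ⟨?_, ?_, ?_⟩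
  · change B.πQ T (B.add₂ T _ _ _) = q + q'
    rw [B.πQ_add₂, πQ_e₁, πQ_e₁]
  · change B.πP T (B.add₂ T _ _ _) = 0
    rw [B.πP_add₂, πP_e₁]
  · change B.add₁ T (B.add₂ T _ _ _) (B.add₂ T _ _ _) _ = B.add₂ T _ _ _
    rw [B.compat T _ _ _ _ _ _ rfl rfl]
    exact add₂_congr B (e₁_add₁_self B T q) (e₁_add₁_self B T q') _

/-- The negative for the first law. -/
noncomputable abbrev neg₁ (T : C) (x : B.E.obj.obj (op T)) : B.E.obj.obj (op T) := neg₂ (swap B) T x

theorem πQ_neg₁ (T : C) (x : B.E.obj.obj (op T)) : B.πQ T (neg₁ B T x) = B.πQ T x := πP_neg₂ (swap B) T x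

theorem πP_neg₁ (T : C) (x : B.E.obj.obj (op T)) : B.πP T (neg₁ B T x) = -B.πP T x := πQ_neg₂ (swap B) T x

theorem add₁_neg₁ (T : C) (x : B.E.obj.obj (op T)) :
    B.add₁ T x (neg₁ B T x) (πQ_neg₁ B T x).symm = e₁ B T (B.πQ T x) := add₂_neg₂ (swap B) T x

/-- A partial splitting over `T`. -/
structure Spl (T : C) : Type (u + 1) where
  /-- the section of the first group -/
  p : P.obj.obj (op T)
  /-- the sections above it -/
  σ : ∀ U : C, (U ⟶ T) → Q.obj.obj (op U) → B.E.obj.obj (op U)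
  πP_σ : ∀ (U : C) (f : U ⟶ T) (q : Q.obj.obj (op U)), B.πP U (σ U f q) = P.obj.map f.op p
  πQ_σ : ∀ (U : C) (f : U ⟶ T) (q : Q.obj.obj (op U)), B.πQ U (σ U f q) = q
  map_σ : ∀ (U V : C) (g : V ⟶ U) (f : U ⟶ T) (q : Q.obj.obj (op U)),
    B.E.obj.map g.op (σ U f q) = σ V (g ≫ f) (Q.obj.map g.op q)
  σ_add : ∀ (U : C) (f : U ⟶ T) (q q' : Q.obj.obj (op U)),
    σ U f (q + q') = B.add₂ U (σ U f q) (σ U f q') ((πP_σ U f q).trans (πP_σ U f q').symm)

variable {B}

@[ext]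
theorem Spl.ext {T : C} {s s' : Spl B T} (hp : s.p = s'.p) (h : ∀ U f q, s.σ U f q = s'.σ U f q) : s = s' := by
  obtain ⟨p, σ, _, _, _, _⟩ := s
  obtain ⟨p', σ', _, _, _, _⟩ := s'
  obtain rfl : p = p' := hp
  obtain rfl : σ = σ' := funext fun U => funext fun f => funext fun q => h U f q
  rfl

theorem Spl.σ_hom {T : C} (s : Spl B T) {U : C} {f f' : U ⟶ T} (h : f = f') (q : Q.obj.obj (op U)) :
    s.σ U f q = s.σ U f' q := h ▸ rfl

/-- Sum of partial splittings. -/
noncomputable def Spl.add {T : C} (s s' : Spl B T) : Spl B T where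
  p := s.p + s'.p
  σ U f q := B.add₁ U (s.σ U f q) (s'.σ U f q) ((s.πQ_σ U f q).trans (s'.πQ_σ U f q).symm)
  πP_σ U f q := by rw [B.πP_add₁, s.πP_σ, s'.πP_σ, map_add]
  πQ_σ U f q := by rw [B.πQ_add₁, s.πQ_σ]
  map_σ U V g f q := by
    rw [B.add₁_map]
    exact add₁_congr B (s.map_σ U V g f q) (s'.map_σ U V g f q) _
  σ_add U f q q' := by
    rw [add₁_congr B (s.σ_add U f q q') (s'.σ_add U f q q')]
    exact B.compat U _ _ _ _ _ _ ((s.πQ_σ U f q).trans (s'.πQ_σ U f q).symm)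
      ((s.πQ_σ U f q').trans (s'.πQ_σ U f q').symm)

/-- The neutral partial splitting. -/
noncomputable def Spl.zero (T : C) : Spl B T where
  p := 0
  σ U _ q := e₁ B U q
  πP_σ U f q := by rw [πP_e₁, map_zero]
  πQ_σ U f q := πQ_e₁ B U q
  map_σ U V g f q := map_e₁ B g q
  σ_add U f q q' := e₁_add B U q q'

/-- The opposite partial splitting. -/
noncomputable def Spl.neg {T : C} (s : Spl B T) : Spl B T where
  p := -s.p
  σ U f q := neg₁ B U (s.σ U f q)
  πP_σ U f q := by rw [πP_neg₁, s.πP_σ, map_neg]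
  πQ_σ U f q := by rw [πQ_neg₁, s.πQ_σ]
  map_σ U V g f q := (map_neg₂ (swap B) g (s.σ U f q)).trans (congrArg _ (s.map_σ U V g f q))
  σ_add U f q q' := by
    refine isNeg₂_unique (swap B) (exists_isNeg₂ (swap B) U _).choose_spec ⟨?_, ?_⟩
    · change B.πQ U _ = B.πQ U (B.add₂ U _ _ _)
      rw [B.πQ_add₂, πQ_neg₁, πQ_neg₁, s.πQ_σ, s.πQ_σ, s.πQ_σ]
    · change B.add₁ U (s.σ U f (q + q')) (B.add₂ U (neg₁ B U (s.σ U f q)) (neg₁ B U (s.σ U f q')) _) _ =
        e₁ B U (B.πQ U _)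
      rw [add₁_congr B (s.σ_add U f q q') rfl,
        B.compat U _ _ _ _ _ _ (πQ_neg₁ B U (s.σ U f q)).symm (πQ_neg₁ B U (s.σ U f q')).symm,
        add₂_congr B (add₁_neg₁ B U (s.σ U f q)) (add₁_neg₁ B U (s.σ U f q'))]
      refine (e₁_add B U _ _).symm.trans (congrArg (e₁ B U) ?_)
      rw [s.πQ_σ, s.πQ_σ, s.πQ_σ]

noncomputable instance (T : C) : AddCommGroup (Spl B T) where
  add := Spl.add
  add_assoc s s' s'' := Spl.ext (add_assoc _ _ _) fun U f q => B.add₁_assoc U _ _ _ _ _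
  zero := Spl.zero T
  zero_add s := Spl.ext (zero_add _) fun U f q => e₁_add₁ B U _ q (s.πQ_σ U f q)
  add_zero s := Spl.ext (add_zero _) fun U f q =>
    (B.add₁_comm U _ _ _).trans (e₁_add₁ B U _ q (s.πQ_σ U f q))
  nsmul := @nsmulRec _ ⟨Spl.zero T⟩ ⟨Spl.add⟩
  neg := Spl.neg
  zsmul := @zsmulRec _ ⟨Spl.zero T⟩ ⟨Spl.add⟩ ⟨Spl.neg⟩ (@nsmulRec _ ⟨Spl.zero T⟩ ⟨Spl.add⟩)
  neg_add_cancel s := Spl.ext (neg_add_cancel _) fun U f q =>
    (B.add₁_comm U _ _ _).trans ((add₂_neg₂ (swap B) U (s.σ U f q)).trans (congrArg (e₁ B U) (s.πQ_σ U f q)))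
  add_comm s s' := Spl.ext (add_comm _ _) fun U f q => B.add₁_comm U _ _ _

@[simp] theorem Spl.add_p {T : C} (s s' : Spl B T) : (s + s').p = s.p + s'.p := rfl

@[simp] theorem Spl.zero_p {T : C} : (0 : Spl B T).p = 0 := rfl

theorem Spl.add_σ {T : C} (s s' : Spl B T) (U : C) (f : U ⟶ T) (q : Q.obj.obj (op U)) :
    (s + s').σ U f q = B.add₁ U (s.σ U f q) (s'.σ U f q) ((s.πQ_σ U f q).trans (s'.πQ_σ U f q).symm) := rfl

/-- Restriction of a partial splitting. -/
noncomputable def Spl.res {T T' : C} (h : T' ⟶ T) (s : Spl B T) : Spl B T' where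
  p := P.obj.map h.op s.p
  σ U f q := s.σ U (f ≫ h) q
  πP_σ U f q := (s.πP_σ U _ q).trans (map_map P.obj h f s.p).symm
  πQ_σ U f q := s.πQ_σ U _ q
  map_σ U V g f q := (s.map_σ U V g _ q).trans (s.σ_hom (Category.assoc g f h).symm _)
  σ_add U f q q' := s.σ_add U _ q q'

variable (B)

/-- The presheaf of partial splittings. -/
noncomputable def splPre : Cᵒᵖ ⥤ AddCommGrpCat.{u + 1} where
  obj T := AddCommGrpCat.of (Spl B (unop T))
  map h := AddCommGrpCat.ofHom (AddMonoidHom.mk' (Spl.res h.unop)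
    fun s s' => Spl.ext (map_add (P.obj.map h).hom s.p s'.p) fun _ _ _ => rfl)
  map_id T := by
    ext1; ext1 s
    refine Spl.ext ?_ fun U f q => Spl.σ_hom s (Category.comp_id f) q
    change P.obj.map (𝟙 (unop T)).op (Spl.p s) = Spl.p s
    rw [op_id, P.obj.map_id]; rfl
  map_comp {T T' T''} h h' := by
    ext1; ext1 s
    refine Spl.ext ?_ fun U f q => Spl.σ_hom s (Category.assoc f h'.unop h.unop).symm q
    exact (map_map P.obj h.unop h'.unop (Spl.p s)).symm

/-- Local data for partial splittings glue. -/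
theorem isSheaf_splPre : Presheaf.IsSheaf J (splPre B) := by
  apply Presheaf.isSheaf_of_isSheaf_comp J (splPre B) (forget AddCommGrpCat.{u + 1})
  rw [isSheaf_iff_isSheaf_of_type]
  intro T R hR fam hfam
  let m : ∀ ⦃U : C⦄ (f : U ⟶ T), R f → Spl B U := fun U f hf => fam f hf
  have hm : ∀ ⦃U V : C⦄ (g : V ⟶ U) (f : U ⟶ T) (hf : R f),
      Spl.res g (m f hf) = m (g ≫ f) (R.downward_closed hf g) := fun U V g f hf => by
    have h := (Presieve.compatible_iff_sieveCompatible fam).1 hfam f g hf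
    exact h.symm
  have hmeq : ∀ ⦃U : C⦄ {f f' : U ⟶ T} (e : f = f') (hf : R f), m f hf = m f' (e ▸ hf) := by
    rintro U f _ rfl hf; rfl
  let famP : Presieve.FamilyOfElements (Biext.uSh J P).obj (R : Presieve T) := fun U f hf => (m f hf).p
  have hpc : famP.Compatible := by
    intro U₁ U₂ V g₁ g₂ f₁ f₂ h₁ h₂ hcomm
    change P.obj.map g₁.op (m f₁ h₁).p = P.obj.map g₂.op (m f₂ h₂).p
    exact (congrArg Spl.p ((hm g₁ f₁ h₁).trans ((hmeq hcomm _).trans (hm g₂ f₂ h₂).symm)) :)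
  have hsP := (isSheaf_iff_isSheaf_of_type J _).1 (Biext.uSh J P).property R hR
  let p : P.obj.obj (op T) := hsP.amalgamate _ hpc
  have hp : ∀ ⦃U : C⦄ (f : U ⟶ T) (hf : R f), P.obj.map f.op p = (m f hf).p :=
    fun U f hf => hsP.valid_glue hpc f hf
  have hσ : ∀ (U : C) (f : U ⟶ T) (q : Q.obj.obj (op U)), ∃ x : B.E.obj.obj (op U),
      ∀ ⦃V : C⦄ (g : V ⟶ U) (hg : R (g ≫ f)),
        B.E.obj.map g.op x = (m (g ≫ f) hg).σ V (𝟙 V) (Q.obj.map g.op q) := by
    intro U f q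
    obtain ⟨x, hx⟩ := exists_glue_unique B.E
      (fun V g y => ∃ hg : R (g ≫ f), y = (m (g ≫ f) hg).σ V (𝟙 V) (Q.obj.map g.op q))
      (fun V W k g y ⟨hg, hy⟩ => ⟨by rw [Category.assoc]; exact R.downward_closed hg k, by
        rw [hy, Spl.map_σ, map_map, hmeq (Category.assoc k g f), ← hm k (g ≫ f) hg]
        exact (m (g ≫ f) hg).σ_hom (by simp) _⟩)
      (fun V g y y' ⟨_, hy⟩ ⟨_, hy'⟩ => hy.trans hy'.symm)
      (R.pullback f) (J.pullback_stable f hR) (fun V g hg => ⟨_, hg, rfl⟩)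
    exact ⟨x, fun V g hg => (hx g hg).2⟩
  choose σ hσ using hσ
  refine ⟨{ p := p, σ := σ, πP_σ := ?_, πQ_σ := ?_, map_σ := ?_, σ_add := ?_ }, ?_, ?_⟩
  · intro U f q
    refine ab_ext_of_cover P (J.pullback_stable f hR) fun V g hg => ?_
    rw [← B.πP_map, hσ U f q g hg, Spl.πP_σ, ← hp (g ≫ f) hg, map_map, map_map, Category.id_comp]
  · intro U f q
    refine ab_ext_of_cover Q (J.pullback_stable f hR) fun V g hg => ?_
    rw [← B.πQ_map, hσ U f q g hg, Spl.πQ_σ]
  · intro U U' k f q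
    refine ext_of_cover B.E (J.pullback_stable (k ≫ f) hR) fun V g hg => ?_
    have hg' : R ((g ≫ k) ≫ f) := by rw [Category.assoc]; exact hg
    rw [hσ U' (k ≫ f) _ g hg, map_mapE, hσ U f q (g ≫ k) hg', map_map, hmeq (Category.assoc g k f)]
  · intro U f q q'
    refine ext_of_cover B.E (J.pullback_stable f hR) fun V g hg => ?_
    rw [B.add₂_map, hσ U f _ g hg, map_add, Spl.σ_add]
    exact add₂_congr B (hσ U f q g hg).symm (hσ U f q' g hg).symm _
  · intro U f hf
    refine Spl.ext (hp f hf) fun V g q => ?_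
    change σ V (g ≫ f) q = (m f hf).σ V g q
    have hg : R (𝟙 V ≫ g ≫ f) := by rw [Category.id_comp]; exact R.downward_closed hf g
    rw [← map_idE B (σ V (g ≫ f) q), hσ V (g ≫ f) q (𝟙 V) hg, hmeq (Category.id_comp (g ≫ f)), ← hm g f hf,
      op_id, Q.obj.map_id]
    exact (m f hf).σ_hom (Category.id_comp g) q
  · intro s hs
    have hs' : ∀ ⦃U : C⦄ (f : U ⟶ T) (hf : R f), Spl.res f s = m f hf := fun U f hf => hs f hf
    refine Spl.ext ?_ fun U f q => ?_
    · exact ab_ext_of_cover P hR fun U f hf => (congrArg Spl.p (hs' f hf)).trans (hp f hf).symm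
    · refine ext_of_cover B.E (J.pullback_stable f hR) fun V g hg => ?_
      rw [hσ U f q g hg, ← hs' (g ≫ f) hg]
      exact (Spl.map_σ s U V g f q).trans (Spl.σ_hom s (Category.id_comp _).symm _)

/-- The sheaf of partial splittings. -/
noncomputable def splSh : Sheaf J AddCommGrpCat.{u + 1} := ⟨splPre B, isSheaf_splPre B⟩

/-- The projection to the first group. -/
noncomputable def splπ : splSh B ⟶ P :=
  ⟨{ app := fun T => AddCommGrpCat.ofHom (AddMonoidHom.mk' Spl.p fun _ _ => rfl)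
     naturality := fun _ _ _ => rfl }⟩

end Groth.AbSchBiext
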