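import Groth.Agent.AbSchBiext.Extend
import Groth.Agent.AbSchBiext.SplSheaf
import Groth.Agent.AbSchBiext.Exactness
import Groth.Prelude.Def_CGrpSh2
import Mathlib.Algebra.Homology.DerivedCategory.Ext.ExactSequences
import Mathlib.CategoryTheory.Abelian.RightDerived

/-!
# Triviality of biextensions from the vanishing of `Ext¹(P, 𝓗om(Q, G))` and `Hom(P, 𝓔xt¹(Q, G))`
-/

set_option autoImplicit false
set_option backward.isDefEq.respectTransparency false
set_option linter.style.haveILetI false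
set_option maxHeartbeats 1000000

universe u

open CategoryTheory Opposite Limits

namespace Groth.AbSchBiext

variable {C : Type (u + 1)} [Category.{u} C] {J : GrothendieckTopology C}
  {P Q G X X' : Sheaf J AddCommGrpCat.{u + 1}}

/-- The value of a local morphism of sheaves. -/
abbrev val {T : C} (φ : Q.over T ⟶ X.over T) (U : C) (f : U ⟶ T) (q : Q.obj.obj (op U)) : X.obj.obj (op U) :=
  φ.hom.app (op (Over.mk f)) q

theorem val_add {T : C} (φ : Q.over T ⟶ X.over T) (U : C) (f : U ⟶ T) (q q' : Q.obj.obj (op U)) :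
    val φ U f (q + q') = val φ U f q + val φ U f q' :=
  map_add (φ.hom.app (op (Over.mk f))).hom q q'

theorem val_map {T : C} (φ : Q.over T ⟶ X.over T) {U V : C} (g : V ⟶ U) (f : U ⟶ T) (q : Q.obj.obj (op U)) :
    X.obj.map g.op (val φ U f q) = val φ V (g ≫ f) (Q.obj.map g.op q) :=
  (ConcreteCategory.congr_hom (φ.hom.naturality (Over.homMk g rfl : Over.mk (g ≫ f) ⟶ Over.mk f).op) q).symm

theorem val_ext {T : C} {φ φ' : Q.over T ⟶ X.over T} (h : ∀ U f q, val φ U f q = val φ' U f q) : φ = φ' :=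
  Sheaf.hom_ext (NatTrans.ext (funext fun U => AddCommGrpCat.ext fun q => h (unop U).left (unop U).hom q))

theorem val_eq_of_eq {T : C} (φ : Q.over T ⟶ X.over T) {U : C} {f f' : U ⟶ T} (h : f = f')
    (q : Q.obj.obj (op U)) : val φ U f q = val φ U f' q := h ▸ rfl

theorem val_add_hom {T : C} (φ φ' : Q.over T ⟶ X.over T) (U : C) (f : U ⟶ T) (q : Q.obj.obj (op U)) :
    val (φ + φ') U f q = val φ U f q + val φ' U f q := rfl

/-- A local morphism of sheaves from natural additive maps of sections. -/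
noncomputable def mkHom {T : C} (v : ∀ U : C, (U ⟶ T) → Q.obj.obj (op U) → X.obj.obj (op U))
    (hadd : ∀ U f q q', v U f (q + q') = v U f q + v U f q')
    (hmap : ∀ (U V : C) (g : V ⟶ U) (f : U ⟶ T) q, X.obj.map g.op (v U f q) = v V (g ≫ f) (Q.obj.map g.op q)) :
    Q.over T ⟶ X.over T :=
  ObjectProperty.homMk
    { app := fun U => AddCommGrpCat.ofHom (AddMonoidHom.mk' (v (unop U).left (unop U).hom) (hadd _ _))
      naturality := fun U V g => AddCommGrpCat.ext fun q => by
        change v (unop V).left (unop V).hom (Q.obj.map g.unop.left.op q) =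
          X.obj.map g.unop.left.op (v (unop U).left (unop U).hom q)
        rw [hmap, Over.w g.unop] }

theorem val_mkHom {T : C} (v : ∀ U : C, (U ⟶ T) → Q.obj.obj (op U) → X.obj.obj (op U)) (hadd hmap)
    (U : C) (f : U ⟶ T) (q : Q.obj.obj (op U)) : val (mkHom (T := T) v hadd hmap) U f q = v U f q := rfl

/-- Values of a restriction. -/
theorem val_res {T T' : C} (h : T' ⟶ T) (φ : (HomSh.homSh J Q X).obj.obj (op T)) (U : C) (f : U ⟶ T')
    (q : Q.obj.obj (op U)) :
    val ((HomSh.homSh J Q X).obj.map h.op φ : Q.over T' ⟶ X.over T') U f q =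
      val (φ : Q.over T ⟶ X.over T) U (f ≫ h) q := rfl

/-- Values of a composite with a morphism of sheaves. -/
theorem val_comp (d : X ⟶ X') {T : C} (φ : (HomSh.homSh J Q X).obj.obj (op T)) (U : C) (f : U ⟶ T)
    (q : Q.obj.obj (op U)) :
    val (((HomSh.homShFunctor J Q).map d).hom.app (op T) φ : Q.over T ⟶ X'.over T) U f q =
      d.hom.app (op U) (val (φ : Q.over T ⟶ X.over T) U f q) := rfl

variable (B : Biext J P Q G)

/-- Homomorphisms from the second group to the structure group as partial splittings over zero. -/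
noncomputable def splι : HomSh.homSh J Q G ⟶ splSh B :=
  ObjectProperty.homMk
    { app := fun T => AddCommGrpCat.ofHom (AddMonoidHom.mk'
        (fun φ : Q.over (unop T) ⟶ G.over (unop T) =>
          ({ p := 0
             σ := fun U f q => B.act U (val φ U f q) (e₁ B U q)
             πP_σ := fun U f q => by rw [B.πP_act, πP_e₁, map_zero]
             πQ_σ := fun U f q => by rw [B.πQ_act, πQ_e₁]
             map_σ := fun U V g f q => by rw [B.act_map, val_map, map_e₁]
             σ_add := fun U f q q' => by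
              rw [B.add₂_act U _ (e₁ B U q) _ (((πP_e₁ B U q).trans (πP_e₁ B U q').symm).trans (B.πP_act U _ _).symm),
                add₂_act_right B U _ _ _ ((πP_e₁ B U q).trans (πP_e₁ B U q').symm),
                ← e₁_add, ← B.add_act, val_add] } : Spl B (unop T)))
        fun φ φ' => Spl.ext (add_zero (0 : P.obj.obj T)).symm fun U f q => by
          change B.act U (val (φ + φ') U f q) (e₁ B U q) =
            B.add₁ U (B.act U (val φ U f q) (e₁ B U q)) (B.act U (val φ' U f q) (e₁ B U q)) _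
          rw [B.add₁_act U _ (e₁ B U q) _ (B.πQ_act U _ _).symm, B.add₁_comm,
            B.add₁_act U _ (e₁ B U q) _ rfl, e₁_add₁_self, ← B.add_act, val_add_hom])
      naturality := fun T T' h => AddCommGrpCat.ext fun φ => Spl.ext (map_zero (P.obj.map h).hom).symm
        fun U f q => rfl }

theorem splι_σ (T : C) (φ : (HomSh.homSh J Q G).obj.obj (op T)) (U : C) (f : U ⟶ T) (q : Q.obj.obj (op U)) :
    ((splι B).hom.app (op T) φ : Spl B T).σ U f q =
      B.act U (val (φ : Q.over T ⟶ G.over T) U f q) (e₁ B U q) := rfl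

theorem splι_π : splι B ≫ splπ B = 0 :=
  Sheaf.hom_ext (NatTrans.ext (funext fun _ => AddCommGrpCat.ext fun _ => rfl))

theorem splι_injective (T : C) : Function.Injective ((splι B).hom.app (op T)) := fun φ φ' h =>
  val_ext fun U f q => by
    have h1 : ((splι B).hom.app (op T) φ : Spl B T).σ U f q = ((splι B).hom.app (op T) φ' : Spl B T).σ U f q := by
      rw [h]
    rw [splι_σ, splι_σ] at h1
    exact (B.existsUnique_act U (e₁ B U q) _ (B.πP_act U _ _).symm (B.πQ_act U _ _).symm).unique rfl h1.symm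

theorem exists_splι_eq (T : C) (s : Spl B T) (hs : s.p = 0) :
    ∃ φ, (splι B).hom.app (op T) φ = s := by
  have hex : ∀ (U : C) (f : U ⟶ T) (q : Q.obj.obj (op U)), ∃! g, B.act U g (e₁ B U q) = s.σ U f q :=
    fun U f q => B.existsUnique_act U _ _
      (by rw [πP_e₁, s.πP_σ, hs, map_zero]) (by rw [πQ_e₁, s.πQ_σ])
  choose v hv hv' using hex
  refine ⟨mkHom (X := G) v (fun U f q q' => ?_) (fun U V g f q => ?_), Spl.ext hs.symm fun U f q => hv U f q⟩
  · refine (hv' U f (q + q') _ ?_).symm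
    dsimp only
    rw [e₁_add B U q q', B.add_act,
      ← add₂_act_right B U (v U f q') _ _ ((πP_e₁ B U q).trans (πP_e₁ B U q').symm),
      ← B.add₂_act U (v U f q) _ _ (((πP_e₁ B U q).trans (πP_e₁ B U q').symm).trans (B.πP_act U _ _).symm),
      add₂_congr B (hv U f q) (hv U f q')]
    exact (s.σ_add U f q q').symm
  · refine hv' V (g ≫ f) _ _ ?_
    dsimp only
    rw [← map_e₁, ← B.act_map, hv, s.map_σ]

section Main

variable [HasSheafify J AddCommGrpCat.{u + 1}] [J.WEqualsLocallyBijective AddCommGrpCat.{u + 1}]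

/-- From the vanishing of morphisms to the first derived internal Hom, every section of `P` lifts locally to a
partial splitting. -/
theorem exists_local_spl [HasInjectiveResolutions (Sheaf J AddCommGrpCat.{u + 1})]
    (h₂ : ∀ φ : P ⟶ ((HomSh.homShFunctor J Q).rightDerived 1).obj G, φ = 0)
    (T : C) (p : P.obj.obj (op T)) :
    ∃ R ∈ J T, ∀ ⦃U : C⦄ (f : U ⟶ T), R f → ∃ s : Spl B U, s.p = P.obj.map f.op p := by
  let I := injectiveResolution G
  let X₀ := I.cocomplex.X 0
  let X₁ := I.cocomplex.X 1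
  let ι : G ⟶ X₀ := I.ι.f 0
  let d : X₀ ⟶ X₁ := I.cocomplex.d 0 1
  let d' : X₁ ⟶ I.cocomplex.X 2 := I.cocomplex.d 1 2
  have hιd : ι ≫ d = 0 := I.ι_f_zero_comp_complex_d
  have hιinj : ∀ U : C, Function.Injective (ι.hom.app (op U)) := fun U => by
    haveI : Mono ι := inferInstanceAs (Mono (I.ι.f 0))
    haveI : Mono ((sheafToPresheaf J AddCommGrpCat.{u + 1} ⋙
      (evaluation Cᵒᵖ AddCommGrpCat.{u + 1}).obj (op U)).map ι) := inferInstance
    exact (AddCommGrpCat.mono_iff_injective _).1 this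
  have hιker : ∀ (U : C) (y : X₀.obj.obj (op U)), d.hom.app (op U) y = 0 → ∃ z, ι.hom.app (op U) z = y :=
    fun U y hy => exists_section_of_isKernel hιd I.isLimitKernelFork U y hy
  obtain ⟨ψ, hψmap, hψact, hψadd⟩ := exists_linearisation B ι
  -- the composite `d ψ` descends to `P × Q`
  let η : ∀ U : C, B.E.obj.obj (op U) → X₁.obj.obj (op U) := fun U x => d.hom.app (op U) (ψ U x)
  have hdι : ∀ (U : C) g, d.hom.app (op U) (ι.hom.app (op U) g) = 0 := fun U g =>
    ConcreteCategory.congr_hom (congrArg (fun m => m.hom.app (op U)) hιd) g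
  have hηmap : ∀ {U V : C} (g : V ⟶ U) x, X₁.obj.map g.op (η U x) = η V (B.E.obj.map g.op x) := fun {U V} g x => by
    refine (ConcreteCategory.congr_hom (d.hom.naturality g.op) (ψ U x)).symm.trans ?_
    exact congrArg (d.hom.app (op V)) (hψmap g x)
  have hηeq : ∀ (U : C) x x', B.πP U x = B.πP U x' → B.πQ U x = B.πQ U x' → η U x = η U x' := fun U x x' h h' => by
    obtain ⟨g, rfl, -⟩ := B.existsUnique_act U x x' h h'
    change _ = d.hom.app (op U) (ψ U (B.act U g x))
    rw [hψact, map_add, hdι, zero_add]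
  have hlift : ∀ {T : C} (p : P.obj.obj (op T)) (U : C) (f : U ⟶ T) (q : Q.obj.obj (op U)),
      ∃ y : X₁.obj.obj (op U), ∀ ⦃V : C⦄ (g : V ⟶ U) (x : B.E.obj.obj (op V)),
        B.πP V x = P.obj.map (g ≫ f).op p → B.πQ V x = Q.obj.map g.op q → X₁.obj.map g.op y = η V x := by
    intro T p U f q
    obtain ⟨R, hR, hloc⟩ := B.locallySurjective U (P.obj.map f.op p) q
    obtain ⟨y, hy⟩ := exists_glue_unique (Biext.uSh J X₁)
      (fun V g y => ∃ x, B.πP V x = P.obj.map (g ≫ f).op p ∧ B.πQ V x = Q.obj.map g.op q ∧ y = η V x)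
      (by
        rintro V W k g y ⟨x, hx, hx', hy⟩
        exact ⟨B.E.obj.map k.op x, by rw [B.πP_map, hx, map_map, Category.assoc],
          by rw [B.πQ_map, hx', map_map], (congrArg (X₁.obj.map k.op) hy).trans (hηmap k x)⟩)
      (by
        rintro V g y y' ⟨x, hx, hx', hy⟩ ⟨x', hxx, hxx', hy'⟩
        exact hy.trans ((hηeq V x x' (hx.trans hxx.symm) (hx'.trans hxx'.symm)).trans hy'.symm))
      R hR (fun V g hg => by
        obtain ⟨x, hx, hx'⟩ := hloc g hg
        exact ⟨η V x, x, hx.trans (map_map _ f g p), hx', rfl⟩)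
    refine ⟨y, fun V g x hx hx' => ab_ext_of_cover X₁ (J.pullback_stable g hR) fun W k hk => ?_⟩
    obtain ⟨x', hxx, hxx', hy'⟩ := hy (k ≫ g) hk
    rw [map_map, hηmap]
    refine Eq.trans hy' (hηeq W _ _ ?_ ?_)
    · rw [hxx, B.πP_map, hx, map_map, Category.assoc]
    · rw [hxx', B.πQ_map, hx', map_map]
  choose χv hχv using @hlift
  have hχcover : ∀ {T : C} (p : P.obj.obj (op T)) (U : C) (f : U ⟶ T) (q : Q.obj.obj (op U)),
      ∃ R ∈ J U, ∀ ⦃V : C⦄ (g : V ⟶ U), R g →
        ∃ x, B.πP V x = P.obj.map (g ≫ f).op p ∧ B.πQ V x = Q.obj.map g.op q := fun p U f q => by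
    obtain ⟨R, hR, hloc⟩ := B.locallySurjective U (P.obj.map f.op p) q
    exact ⟨R, hR, fun V g hg => (hloc g hg).imp fun x hx => ⟨hx.1.trans (map_map _ f g p), hx.2⟩⟩
  let χ : ∀ {T : C}, P.obj.obj (op T) → (Q.over T ⟶ X₁.over T) := fun {T} p =>
    mkHom (χv p) (fun U f q q' => by
      obtain ⟨R, hR, hloc⟩ := hχcover p U f q
      obtain ⟨R', hR', hloc'⟩ := hχcover p U f q'
      refine ab_ext_of_cover X₁ (J.intersection_covering hR hR') fun V g hg => ?_
      obtain ⟨x, hx, hxq⟩ := hloc g hg.1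
      obtain ⟨x', hx', hxq'⟩ := hloc' g hg.2
      rw [map_add, hχv p U f q g x hx hxq, hχv p U f q' g x' hx' hxq',
        hχv p U f (q + q') g (B.add₂ V x x' (hx.trans hx'.symm)) ((B.πP_add₂ _ _ _ _).trans hx)
          (by rw [B.πQ_add₂, hxq, hxq', map_add])]
      change d.hom.app (op V) (ψ V (B.add₂ V x x' _)) = _
      rw [hψadd, map_add])
    (fun U V g f q => by
      obtain ⟨R, hR, hloc⟩ := hχcover p V (g ≫ f) (Q.obj.map g.op q)
      refine ab_ext_of_cover X₁ hR fun W k hk => ?_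
      obtain ⟨x, hx, hxq⟩ := hloc k hk
      rw [map_map, hχv p V (g ≫ f) _ k x hx hxq,
        hχv p U f q (k ≫ g) x (by rw [Category.assoc]; exact hx) (hxq.trans (map_map _ g k q))])
  have hχval : ∀ {T : C} (p : P.obj.obj (op T)) (U : C) f q, val (χ p) U f q = χv p U f q := fun _ _ _ _ => rfl
  -- failure of additivity in `P` is a boundary
  have hc : ∀ {T : C} (p p' : P.obj.obj (op T)), ∃ c : Q.over T ⟶ X₀.over T,
      ((HomSh.homShFunctor J Q).map d).hom.app (op T) c = χ (p + p') - χ p - χ p' := by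
    intro T p p'
    have hloc2 : ∀ (U : C) (f : U ⟶ T) (q : Q.obj.obj (op U)), ∃ y : X₀.obj.obj (op U),
        ∀ ⦃V : C⦄ (g : V ⟶ U) (x x' : B.E.obj.obj (op V)), B.πP V x = P.obj.map (g ≫ f).op p →
          (hq : B.πQ V x = Q.obj.map g.op q) → B.πP V x' = P.obj.map (g ≫ f).op p' →
          (hq' : B.πQ V x' = Q.obj.map g.op q) →
          X₀.obj.map g.op y = ψ V (B.add₁ V x x' (hq.trans hq'.symm)) - ψ V x - ψ V x' := by
      intro U f q
      let κ : ∀ (V : C) (x x' : B.E.obj.obj (op V)) (h : B.πQ V x = B.πQ V x'), X₀.obj.obj (op V) :=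
        fun V x x' h => ψ V (B.add₁ V x x' h) - ψ V x - ψ V x'
      have hκmap : ∀ {V W : C} (k : W ⟶ V) x x' (h : B.πQ V x = B.πQ V x'), X₀.obj.map k.op (κ V x x' h) =
          κ W (B.E.obj.map k.op x) (B.E.obj.map k.op x') (by rw [B.πQ_map, B.πQ_map, h]) := fun {V W} k x x' h => by
        change X₀.obj.map k.op (_ - _ - _) = _
        rw [map_sub, map_sub, hψmap, hψmap, hψmap, B.add₁_map]
      have hκeq : ∀ (V : C) x x' z z' (h : B.πQ V x = B.πQ V x') (h' : B.πQ V z = B.πQ V z'),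
          B.πP V x = B.πP V z → B.πQ V x = B.πQ V z → B.πP V x' = B.πP V z' → κ V x x' h = κ V z z' h' :=
        fun V x x' z z' h h' e1 e2 e3 => by
          obtain ⟨g, rfl, -⟩ := B.existsUnique_act V x z e1 e2
          obtain ⟨g', rfl, -⟩ := B.existsUnique_act V x' z' e3 (h.symm.trans (e2.trans h'))
          change _ = ψ V (B.add₁ V (B.act V g x) (B.act V g' x') _) - _ - _
          rw [B.add₁_act V g x _ (h.trans (B.πQ_act V g' x').symm), B.add₁_comm V x _ (h.trans (B.πQ_act V g' x').symm),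
            B.add₁_act V g' x' x h.symm, B.add₁_comm V x' x h.symm, hψact, hψact, hψact, hψact]
          change ψ V (B.add₁ V x x' h) - ψ V x - ψ V x' = _
          abel
      obtain ⟨R, hR, hloc⟩ := hχcover p U f q
      obtain ⟨R', hR', hloc'⟩ := hχcover p' U f q
      obtain ⟨y, hy⟩ := exists_glue_unique (Biext.uSh J X₀)
        (fun V g y => ∃ x x', ∃ hq : B.πQ V x = Q.obj.map g.op q, ∃ hq' : B.πQ V x' = Q.obj.map g.op q,
          B.πP V x = P.obj.map (g ≫ f).op p ∧ B.πP V x' = P.obj.map (g ≫ f).op p' ∧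
            y = κ V x x' (hq.trans hq'.symm))
        (by
          rintro V W k g y ⟨x, x', hq, hq', h1, h2, hy⟩
          exact ⟨B.E.obj.map k.op x, B.E.obj.map k.op x',
          by rw [B.πQ_map, hq, map_map], by rw [B.πQ_map, hq', map_map],
          by rw [B.πP_map, h1, map_map, Category.assoc], by rw [B.πP_map, h2, map_map, Category.assoc],
          (congrArg (X₀.obj.map k.op) hy).trans (hκmap k x x' _)⟩)
        (by
          rintro V g y y' ⟨x, x', hq, hq', h1, h2, hy⟩ ⟨z, z', hq₂, hq₂', h3, h4, hy'⟩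
          exact hy.trans ((hκeq V x x' z z' _ _ (h1.trans h3.symm) (hq.trans hq₂.symm) (h2.trans h4.symm)).trans hy'.symm))
        (R ⊓ R') (J.intersection_covering hR hR') (fun V g hg => by
          obtain ⟨x, hx, hq⟩ := hloc g hg.1
          obtain ⟨x', hx', hq'⟩ := hloc' g hg.2
          exact ⟨_, x, x', hq, hq', hx, hx', rfl⟩)
      refine ⟨y, fun V g x x' h1 hq h2 hq' => ?_⟩
      refine ab_ext_of_cover X₀ (J.pullback_stable g (J.intersection_covering hR hR')) fun W k hk => ?_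
      obtain ⟨z, z', hzq, hzq', h3, h4, hy'⟩ := hy (k ≫ g) hk
      rw [map_map]
      refine Eq.trans hy' (Eq.trans ?_ (hκmap k x x' (hq.trans hq'.symm)).symm)
      refine hκeq W _ _ _ _ _ _ ?_ ?_ ?_
      · rw [h3, B.πP_map, h1, map_map, Category.assoc]
      · rw [hzq, B.πQ_map, hq, map_map]
      · rw [h4, B.πP_map, h2, map_map, Category.assoc]
    choose cv hcv using hloc2
    refine ⟨mkHom cv (fun U f q q' => ?_) (fun U V g f q => ?_), val_ext fun U f q => ?_⟩
    · obtain ⟨R₁, hR₁, hl₁⟩ := hχcover p U f q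
      obtain ⟨R₂, hR₂, hl₂⟩ := hχcover p U f q'
      obtain ⟨R₃, hR₃, hl₃⟩ := hχcover p' U f q
      obtain ⟨R₄, hR₄, hl₄⟩ := hχcover p' U f q'
      refine ab_ext_of_cover X₀ (J.intersection_covering (J.intersection_covering hR₁ hR₂)
        (J.intersection_covering hR₃ hR₄)) fun V g hg => ?_
      obtain ⟨x, hx, hxq⟩ := hl₁ g hg.1.1
      obtain ⟨y, hy, hyq⟩ := hl₂ g hg.1.2
      obtain ⟨z, hz, hzq⟩ := hl₃ g hg.2.1
      obtain ⟨t, ht, htq⟩ := hl₄ g hg.2.2
      rw [map_add, hcv U f q g x z hx hxq hz hzq, hcv U f q' g y t hy hyq ht htq,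
        hcv U f (q + q') g (B.add₂ V x y (hx.trans hy.symm)) (B.add₂ V z t (hz.trans ht.symm))
          ((B.πP_add₂ _ _ _ _).trans hx) (by rw [B.πQ_add₂, hxq, hyq, map_add])
          ((B.πP_add₂ _ _ _ _).trans hz) (by rw [B.πQ_add₂, hzq, htq, map_add]),
        B.compat V x y z t _ _ (hxq.trans hzq.symm) (hyq.trans htq.symm), hψadd, hψadd, hψadd]
      abel
    · obtain ⟨R₁, hR₁, hl₁⟩ := hχcover p V (g ≫ f) (Q.obj.map g.op q)
      obtain ⟨R₂, hR₂, hl₂⟩ := hχcover p' V (g ≫ f) (Q.obj.map g.op q)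
      refine ab_ext_of_cover X₀ (J.intersection_covering hR₁ hR₂) fun W k hk => ?_
      obtain ⟨x, hx, hxq⟩ := hl₁ k hk.1
      obtain ⟨x', hx', hxq'⟩ := hl₂ k hk.2
      rw [map_map, hcv V (g ≫ f) _ k x x' hx hxq hx' hxq',
        hcv U f q (k ≫ g) x x' (by rw [Category.assoc]; exact hx) (hxq.trans (map_map _ g k q))
          (by rw [Category.assoc]; exact hx') (hxq'.trans (map_map _ g k q))]
    · change d.hom.app (op U) (cv U f q) = χv (p + p') U f q - χv p U f q - χv p' U f q
      obtain ⟨R₁, hR₁, hl₁⟩ := hχcover p U f q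
      obtain ⟨R₂, hR₂, hl₂⟩ := hχcover p' U f q
      refine ab_ext_of_cover X₁ (J.intersection_covering hR₁ hR₂) fun V g hg => ?_
      obtain ⟨x, hx, hxq⟩ := hl₁ g hg.1
      obtain ⟨x', hx', hxq'⟩ := hl₂ g hg.2
      rw [map_sub, map_sub, hχv p U f q g x hx hxq, hχv p' U f q g x' hx' hxq',
        hχv (p + p') U f q g (B.add₁ V x x' (hxq.trans hxq'.symm))
          (by rw [B.πP_add₁, hx, hx', map_add]) ((B.πQ_add₁ _ _ _ _).trans hxq)]
      refine (ConcreteCategory.congr_hom (d.hom.naturality g.op) (cv U f q)).symm.trans ?_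
      refine (congrArg (d.hom.app (op V)) (hcv U f q g x x' hx hxq hx' hxq')).trans ?_
      rw [map_sub, map_sub]
  -- the class of `χ`
  let F := HomSh.homShFunctor J Q
  let S : ShortComplex (Sheaf J AddCommGrpCat.{u + 1}) :=
    ((F.mapHomologicalComplex _).obj I.cocomplex).sc' 0 1 2
  have hSiso : Nonempty ((F.rightDerived 1).obj G ≅ S.homology) :=
    ⟨I.isoRightDerivedObj F 1 ≪≫ ((F.mapHomologicalComplex _).obj I.cocomplex).homologyIsoSc' 0 1 2
      (by simp) (by simp)⟩
  let π₀ : F.obj X₁ ⟶ cokernel (F.map d) := cokernel.π _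
  have hπd : ∀ (T : C) c, π₀.hom.app (op T) ((F.map d).hom.app (op T) c) = 0 := fun T c =>
    ConcreteCategory.congr_hom (congrArg (fun m => m.hom.app (op T)) (cokernel.condition (F.map d))) c
  have hχres : ∀ {T T' : C} (h : T' ⟶ T) (p : P.obj.obj (op T)),
      (F.obj X₁).obj.map h.op (χ p) = χ (P.obj.map h.op p) := fun {T T'} h p => val_ext fun U f q => by
    change χv p U (f ≫ h) q = χv (P.obj.map h.op p) U f q
    obtain ⟨R, hR, hloc⟩ := hχcover p U (f ≫ h) q
    refine ab_ext_of_cover X₁ hR fun V g hg => ?_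
    obtain ⟨x, hx, hxq⟩ := hloc g hg
    rw [hχv p U (f ≫ h) q g x hx hxq,
      hχv (P.obj.map h.op p) U f q g x (by rw [map_map, Category.assoc]; exact hx) hxq]
  let k : P ⟶ cokernel (F.map d) := ObjectProperty.homMk
    { app := fun T => AddCommGrpCat.ofHom (AddMonoidHom.mk' (fun p => π₀.hom.app T (χ p)) fun p p' => by
        obtain ⟨c, hc'⟩ := hc p p'
        have h1 := congrArg (π₀.hom.app T) hc'
        rw [show π₀.hom.app T (((HomSh.homShFunctor J Q).map d).hom.app T c) = 0 from hπd (unop T) c] at h1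
        refine sub_eq_zero.1 (Eq.trans ?_ h1.symm)
        change π₀.hom.app T (χ (p + p')) - (π₀.hom.app T (χ p) + π₀.hom.app T (χ p')) =
          (π₀.hom.app T).hom (χ (p + p') - χ p - χ p')
        rw [map_sub, map_sub]
        abel)
      naturality := fun T T' h => AddCommGrpCat.ext fun p => by
        change π₀.hom.app T' (χ (P.obj.map h p)) = (cokernel (F.map d)).obj.map h (π₀.hom.app T (χ p))
        refine (congrArg (π₀.hom.app T') (hχres h.unop p).symm).trans ?_
        exact ConcreteCategory.congr_hom (π₀.hom.naturality h) (χ p) }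
  have hSf : S.f = F.map d := rfl
  let e : cokernel (F.map d) ≅ S.opcycles :=
    (cokernelIsCokernel (F.map d)).coconePointUniqueUpToIso S.opcyclesIsCokernel
  have he : π₀ ≫ e.hom = S.pOpcycles :=
    IsColimit.comp_coconePointUniqueUpToIso_hom (cokernelIsCokernel (F.map d)) S.opcyclesIsCokernel
      WalkingParallelPair.one
  have hdd' : ∀ (U : C) y, d'.hom.app (op U) (d.hom.app (op U) y) = 0 := fun U y =>
    ConcreteCategory.congr_hom (congrArg (fun m => m.hom.app (op U)) (I.cocomplex.d_comp_d 0 1 2)) y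
  have hkfrom : (k ≫ e.hom) ≫ S.fromOpcycles = 0 := by
    refine Sheaf.hom_ext (NatTrans.ext (funext fun T => AddCommGrpCat.ext fun p => ?_))
    have h1 : π₀ ≫ e.hom ≫ S.fromOpcycles = S.g := by rw [← Category.assoc, he, S.p_fromOpcycles]
    refine (ConcreteCategory.congr_hom (congrArg (fun m : F.obj X₁ ⟶ S.X₃ => m.hom.app T) h1) (χ p)).trans ?_
    refine val_ext fun U f q => ?_
    change d'.hom.app (op U) (χv p U f q) = 0
    obtain ⟨R, hR, hloc⟩ := hχcover p U f q
    refine ab_ext_of_cover (I.cocomplex.X 2) hR fun V g hg => ?_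
    obtain ⟨x, hx, hxq⟩ := hloc g hg
    refine (ConcreteCategory.congr_hom (d'.hom.naturality g.op) (χv p U f q)).symm.trans ?_
    refine (congrArg (d'.hom.app (op V)) (hχv p U f q g x hx hxq)).trans ?_
    exact (hdd' V _).trans (map_zero _).symm
  have hk : k = 0 := by
    obtain ⟨ε⟩ := hSiso
    have h1 : S.liftHomology (k ≫ e.hom) hkfrom ≫ ε.inv = 0 := h₂ _
    have h2 : S.liftHomology (k ≫ e.hom) hkfrom = 0 := by
      rw [← cancel_mono ε.inv, h1, zero_comp]
    rw [← cancel_mono e.hom, zero_comp, ← S.liftHomology_ι (k ≫ e.hom) hkfrom, h2, zero_comp]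
  -- local splittings
  have hπχ : π₀.hom.app (op T) (χ p) = 0 :=
    ConcreteCategory.congr_hom (congrArg (fun m => m.hom.app (op T)) hk) p
  obtain ⟨R, hR, hloc⟩ := exists_local_preimage (F.map d) T (χ p) hπχ
  refine ⟨R, hR, fun U f hf => ?_⟩
  obtain ⟨φ, hφ⟩ := hloc f hf
  have hφ' : ∀ V g q, d.hom.app (op V) (val (φ : Q.over U ⟶ X₀.over U) V g q) = χv p V (g ≫ f) q :=
    fun V g q => congrArg (fun m : Q.over U ⟶ X₁.over U => val m V g q) hφ
  have hσ : ∀ (V : C) (g : V ⟶ U) (q : Q.obj.obj (op V)), ∃ x : B.E.obj.obj (op V),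
      B.πP V x = P.obj.map g.op (P.obj.map f.op p) ∧ B.πQ V x = q ∧
        ψ V x = val (φ : Q.over U ⟶ X₀.over U) V g q := by
    intro V g q
    let Good : ∀ W : C, (W ⟶ V) → B.E.obj.obj (op W) → Prop := fun W l x =>
      B.πP W x = P.obj.map ((l ≫ g) ≫ f).op p ∧ B.πQ W x = Q.obj.map l.op q ∧
        ψ W x = val (φ : Q.over U ⟶ X₀.over U) W (l ≫ g) (Q.obj.map l.op q)
    have huniq : ∀ W (l : W ⟶ V) x x', Good W l x → Good W l x' → x = x' := fun W l x x' h h' => by
      obtain ⟨g', rfl, -⟩ := B.existsUnique_act W x x' (h.1.trans h'.1.symm) (h.2.1.trans h'.2.1.symm)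
      have h0 := (h'.2.2.trans h.2.2.symm).symm
      rw [hψact, right_eq_add] at h0
      rw [hιinj W (h0.trans (map_zero _).symm), B.zero_act]
    obtain ⟨R', hR', hloc'⟩ := hχcover p V (g ≫ f) q
    obtain ⟨x, hx⟩ := exists_glue_unique B.E (fun W l x => Good W l x)
      (fun W W' k l x ⟨h1, h2, h3⟩ => ⟨by rw [B.πP_map, h1, map_map]; simp only [Category.assoc],
        by rw [B.πQ_map, h2, map_map],
        by rw [← hψmap, h3, val_map, map_map]; exact val_eq_of_eq _ (Category.assoc _ _ _).symm _⟩)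
      (fun W l => huniq W l) R' hR' (fun W l hl => by
        obtain ⟨x, hx, hxq⟩ := hloc' l hl
        have h0 : d.hom.app (op W) (val (φ : Q.over U ⟶ X₀.over U) W (l ≫ g) (Q.obj.map l.op q) - ψ W x) = 0 := by
          rw [map_sub, hφ', sub_eq_zero]
          refine Eq.trans ?_ (hχv p V (g ≫ f) q l x hx hxq)
          exact (Eq.trans (val_eq_of_eq (χ p) (Category.assoc l g f) _) (val_map (χ p) l (g ≫ f) q).symm)
        obtain ⟨z, hz⟩ := hιker W _ h0
        refine ⟨B.act W z x, (B.πP_act W z x).trans (by rw [hx, Category.assoc]), (B.πQ_act W z x).trans hxq, ?_⟩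
        rw [hψact, hz, sub_add_cancel])
    refine ⟨x, ab_ext_of_cover P hR' fun W l hl => ?_, ab_ext_of_cover Q hR' fun W l hl => ?_,
      ab_ext_of_cover X₀ hR' fun W l hl => ?_⟩
    · rw [← B.πP_map, (hx l hl).1, map_map, map_map, Category.assoc]
    · rw [← B.πQ_map, (hx l hl).2.1]
    · rw [hψmap, (hx l hl).2.2, val_map]
  have huniqV : ∀ (V : C) (x x' : B.E.obj.obj (op V)), B.πP V x = B.πP V x' → B.πQ V x = B.πQ V x' →
      ψ V x = ψ V x' → x = x' := fun V x x' h h' h'' => by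
    obtain ⟨g', rfl, -⟩ := B.existsUnique_act V x x' h h'
    rw [hψact, right_eq_add] at h''
    rw [hιinj V (h''.trans (map_zero _).symm), B.zero_act]
  choose σ hσ1 hσ2 hσ3 using hσ
  refine ⟨{ p := P.obj.map f.op p, σ := σ, πP_σ := hσ1, πQ_σ := hσ2, map_σ := ?_, σ_add := ?_ }, rfl⟩
  · intro V W l g q
    refine huniqV W _ _ ?_ ?_ ?_
    · rw [B.πP_map, hσ1, hσ1, map_map]
    · rw [B.πQ_map, hσ2, hσ2]
    · rw [← hψmap, hσ3, hσ3, val_map]
  · intro V g q q'
    refine huniqV V _ _ ?_ ?_ ?_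
    · rw [B.πP_add₂, hσ1, hσ1]
    · rw [B.πQ_add₂, hσ2, hσ2, hσ2]
    · rw [hψadd, hσ3, hσ3, hσ3, val_add]

/-- A biextension is trivial when `Ext¹(P, 𝓗om(Q, G))` and `Hom(P, R¹𝓗om(Q, G))` vanish. -/
theorem isTrivial_of_vanishing [HasExt.{u + 1} (Sheaf J AddCommGrpCat.{u + 1})]
    [HasInjectiveResolutions (Sheaf J AddCommGrpCat.{u + 1})]
    (h₁ : ∀ e : Abelian.Ext P (HomSh.homSh J Q G) 1, e = 0)
    (h₂ : ∀ φ : P ⟶ ((HomSh.homShFunctor J Q).rightDerived 1).obj G, φ = 0) :
    Biext.IsTrivial J B := by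
  have hS : (ShortComplex.mk (splι B) (splπ B) (splι_π B)).ShortExact :=
    shortExact_of_sections _ _ _ (splι_injective B) (fun T s hs => exists_splι_eq B T s hs)
      fun T z => by
        obtain ⟨R, hR, h⟩ := exists_local_spl B h₂ T z
        exact ⟨R, hR, fun U f hf => h f hf⟩
  obtain ⟨x, hx⟩ := Abelian.Ext.covariant_sequence_exact₃ P hS (Abelian.Ext.mk₀ (𝟙 P)) (zero_add 1) (h₁ _)
  obtain ⟨s, rfl⟩ := (Abelian.Ext.mk₀_bijective P (splSh B)).surjective x
  rw [Abelian.Ext.mk₀_comp_mk₀] at hx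
  have hs : s ≫ splπ B = 𝟙 P := (Abelian.Ext.mk₀_bijective P P).injective hx
  let S : ∀ T : C, P.obj.obj (op T) → Spl B T := fun T p => s.hom.app (op T) p
  have hp : ∀ T p, (S T p).p = p := fun T p =>
    ConcreteCategory.congr_hom (congrArg (fun m => m.hom.app (op T)) hs) p
  refine ⟨{ σ := fun T p q => (S T p).σ T (𝟙 T) q
            πP_σ := fun T p q => by rw [(S T p).πP_σ, hp, op_id, P.obj.map_id]; rfl
            πQ_σ := fun T p q => (S T p).πQ_σ T (𝟙 T) q
            σ_map := fun {T T'} f p q => ?_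
            σ_add₁ := fun T p p' q => ?_
            σ_add₂ := fun T p q q' => (S T p).σ_add T (𝟙 T) q q' }⟩
  · rw [(S T p).map_σ]
    have h : S T' (P.obj.map f.op p) = Spl.res f (S T p) :=
      ConcreteCategory.congr_hom (s.hom.naturality f.op) p
    rw [h]
    exact (S T p).σ_hom ((Category.comp_id f).trans (Category.id_comp f).symm) _
  · have h : S T (p + p') = S T p + S T p' := map_add (s.hom.app (op T)).hom p p'
    change (S T (p + p')).σ T (𝟙 T) q = _
    rw [h]
    rfl

end Main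

end Groth.AbSchBiext
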